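import Cfsg.Agent.H931.KC.Alcove
import Cfsg.Agent.FastGrp
import Cfsg.Agent.Prune
set_option linter.all false

section
prune_inst 0x7f00000000000000000000000000000000000000000000000000000000000000000000000000000000000000000000000000000000000000000000000000000000000000000000000000000000000000003fffffffffffffffffffffffffffbeffbdffffffff

-- part: H931/KC/Tor
section
set_option linter.all false
open scoped Cfsg.Agent.FastGrp

/-!
# Kac coordinates of an element of the torus (S3509, helper931)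

`exists_kac` : for `t` in the torus of `D.group k`, `t ^ n = 1`, `n ≠ 0` in `k`: there are `w` and Kac coordinates `c`, `c0` of degree
`n` with `cX hp t (rep w x) = ζ ^ ∑ i, x i * c i`; for a root `a ≥ 0` the root `rep w a` is trivial on `t` iff
`∀ i, a i ≠ 0 → c i = 0`, or `c0 = 0` and `∀ i, a i ≠ hr D l i → c i = 0`.
-/

set_option autoImplicit false
set_option linter.unusedSectionVars false

namespace Cfsg.Agent.H931.KC

open CoxeterSystem Cfsg Cfsg.Lie Cfsg.Lie.ChevalleyDatum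
open Cfsg.Agent.ChevalleyStructure Cfsg.Agent.ChevalleyStructure.Elts Cfsg.Agent.ChevalleyStructure.CoxeterGeom
  Cfsg.Agent.ChevalleyStructure.CoxeterGeomTypes Cfsg.Agent.ChevalleyStructure.NPerm
open Cfsg.Agent.Tits.Roots Cfsg.Agent.Tits.Core Cfsg.Agent.Nodes Cfsg.Agent.Nodes.Reps Cfsg.Agent.Nodes.BNOf
  Cfsg.Agent.Nodes.RGDChev Cfsg.Agent.Nodes.Bruhat
open Cfsg.Agent.KFacts.RgdField Cfsg.Agent.KFacts.RgdChevCoord Cfsg.Agent.BpExc.TorCent Cfsg.Agent.BpExc.TorChev
open Cfsg.Agent.H129.TorusChar Cfsg.Agent.H129.WData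

universe u

variable {D : ChevalleyDatum} {l : ℕ} {M : CoxeterMatrix (Fin l)} (hp : IsType D l M) {k : Type u} [Field k]

/-- the characters as powers of a root of unity -/
theorem exists_exp {n : ℕ} (hn : 0 < n) {ζ : k} (hζ : IsPrimitiveRoot ζ n) {t : ↥(D.group k)} (ht : t ∈ TT D k)
    (htn : t ^ n = 1) : ∃ b : (Fin l → ℤ) →+ ℤ, ∀ x, cX hp t x = ζ ^ b x := by
  have : NeZero n := ⟨hn.ne'⟩
  have h1 : ∀ i, ∃ j : ℕ, cX hp t (sr i) = ζ ^ j := by
    intro i
    have h2 : cX hp t (sr i) ^ n = 1 := by rw [← cX_pow hp ht, htn, cX_one]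
    obtain ⟨j, -, hj⟩ := hζ.eq_pow_of_pow_eq_one h2
    exact ⟨j, hj.symm⟩
  choose j hj using h1
  have hζ0 : ζ ≠ 0 := hζ.ne_zero hn.ne'
  refine ⟨psi fun i => (j i : ℤ), fun x => ?_⟩
  have h3 : cX hp t x = ∏ i, cX hp t (sr i) ^ x i := by
    conv_lhs => unfold cX
    exact Finset.prod_congr rfl fun i _ => by rw [cX_sr]
  rw [h3, psi_apply]
  have h4 : ∀ s : Finset (Fin l), (∏ i ∈ s, cX hp t (sr i) ^ x i) = ζ ^ (∑ i ∈ s, x i * (j i : ℤ)) := by
    intro s
    classical
    induction s using Finset.induction_on with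
    | empty => rw [Finset.prod_empty, Finset.sum_empty, zpow_zero]
    | insert i s hi ih =>
      rw [Finset.prod_insert hi, Finset.sum_insert hi, ih, hj, zpow_add₀ hζ0, mul_comm (x i), zpow_mul, zpow_natCast]
  exact h4 Finset.univ

/-- **Kac coordinates.** -/
theorem exists_kac' {n : ℕ} (hn : 0 < n) {ζ : k} (hζ : IsPrimitiveRoot ζ n) {t : ↥(D.group k)} (ht : t ∈ TT D k)
    (htn : t ^ n = 1) : ∃ (w : M.Group) (c : Fin l → ℕ) (c0 : ℕ), Kac D l n c c0 ∧
      (∀ x, cX hp t (rep M.toCoxeterSystem hp.isCartan w x) = ζ ^ (∑ i, x i * (c i : ℤ))) ∧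
      ∀ a, IsRoot M.toCoxeterSystem hp.isCartan a → 0 ≤ a →
        (rep M.toCoxeterSystem hp.isCartan w a ∈ Sx M.toCoxeterSystem hp.isCartan (ch hp) t ↔
          (∀ i, a i ≠ 0 → c i = 0) ∨ (c0 = 0 ∧ ∀ i, a i ≠ hr D l i → c i = 0)) := by
  obtain ⟨b, hb⟩ := exists_exp hp hn hζ ht htn
  obtain ⟨w, c, c0, K, h⟩ := exists_alcove hp hn b
  have hζ0 : ζ ≠ 0 := hζ.ne_zero hn.ne'
  have h1 : ∀ x, cX hp t (rep M.toCoxeterSystem hp.isCartan w x) = ζ ^ (∑ i, x i * (c i : ℤ)) := by
    intro x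
    obtain ⟨m, hm⟩ := h x
    have e : (∑ i, x i * (c i : ℤ)) = n * m + b (rep M.toCoxeterSystem hp.isCartan w x) := by linear_combination hm
    rw [hb, e, zpow_add₀ hζ0, zpow_mul, zpow_natCast, hζ.pow_eq_one, one_zpow, one_mul]
  refine ⟨w, c, c0, K, h1, fun a ha h0 => ?_⟩
  rw [← dvd_iff hp K ha h0, ← hζ.zpow_eq_one_iff_dvd, ← h1, cX_root hp M.toCoxeterSystem ht (ha.act w)]
  exact ⟨fun h => h.2, fun h => ⟨ha.act w, h⟩⟩

/-- **Kac coordinates**, `k` algebraically closed. -/
theorem exists_kac [IsAlgClosed k] {n : ℕ} (hnk : (n : k) ≠ 0) {t : ↥(D.group k)} (ht : t ∈ TT D k) (htn : t ^ n = 1) :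
    ∃ (ζ : k) (w : M.Group) (c : Fin l → ℕ) (c0 : ℕ), IsPrimitiveRoot ζ n ∧ Kac D l n c c0 ∧
      (∀ x, cX hp t (rep M.toCoxeterSystem hp.isCartan w x) = ζ ^ (∑ i, x i * (c i : ℤ))) ∧
      ∀ a, IsRoot M.toCoxeterSystem hp.isCartan a → 0 ≤ a →
        (rep M.toCoxeterSystem hp.isCartan w a ∈ Sx M.toCoxeterSystem hp.isCartan (ch hp) t ↔
          (∀ i, a i ≠ 0 → c i = 0) ∨ (c0 = 0 ∧ ∀ i, a i ≠ hr D l i → c i = 0)) := by
  have hn : 0 < n := Nat.pos_of_ne_zero fun h => hnk (by rw [h, Nat.cast_zero])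
  have : NeZero (n : k) := ⟨hnk⟩
  obtain ⟨ζ, hζ⟩ := HasEnoughRootsOfUnity.exists_primitiveRoot k n
  obtain ⟨w, c, c0, h1, h2, h3⟩ := exists_kac' hp hn hζ ht htn
  exact ⟨ζ, w, c, c0, hζ, h1, h2, h3⟩

/-- not all nodes are zero -/
theorem Kac.ne {n : ℕ} {c : Fin l → ℕ} {c0 : ℕ} (K : Kac D l n c c0) (h0 : c0 = 0) : ∃ i, c i ≠ 0 := by
  by_contra h
  push Not at h
  have h1 := K.sum
  have h2 := K.pos
  rw [h0, Finset.sum_eq_zero fun i _ => by rw [h i, Nat.cast_zero, mul_zero]] at h1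
  push_cast at h1
  omega

end Cfsg.Agent.H931.KC
end

-- part: H931/KC/PPCard
section
set_option linter.all false
open scoped Cfsg.Agent.FastGrp

-- part: H931/KC/Stab
section
/-!
# The stabiliser of a point of the alcove (S3509, helper931)

`b = psi c` with Kac coordinates `c`, `c0` of degree `n`. `al` : the extended simple roots (`none` is `-hr`), `ct` : their
coordinates. If `v` preserves `b` modulo `n` and the positive system `SJ` of the roots in `S = {a | n ∣ b a}` then `v` permutes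
the extended simple roots and preserves the coordinates (`diag`).
-/

set_option autoImplicit false
set_option linter.unusedSectionVars false

namespace Cfsg.Agent.H931.KC

open CoxeterSystem Cfsg Cfsg.Lie Cfsg.Lie.ChevalleyDatum
open Cfsg.Agent.ChevalleyStructure Cfsg.Agent.ChevalleyStructure.Elts Cfsg.Agent.ChevalleyStructure.CoxeterGeom
  Cfsg.Agent.ChevalleyStructure.CoxeterGeomTypes Cfsg.Agent.ChevalleyStructure.NPerm
open Cfsg.Agent.Tits.Roots Cfsg.Agent.Tits.Core Cfsg.Agent.Nodes Cfsg.Agent.Nodes.Reps Cfsg.Agent.Nodes.BNOf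
  Cfsg.Agent.Nodes.RGDChev Cfsg.Agent.Nodes.Bruhat
open Cfsg.Agent.H129.TorusChar Cfsg.Agent.H129.WData

variable {D : ChevalleyDatum} {l : ℕ} {M : CoxeterMatrix (Fin l)} (hp : IsType D l M)

/-- the extended simple roots -/
def al (D : ChevalleyDatum) (l : ℕ) : Option (Fin l) → (Fin l → ℤ)
  | none => -hr D l
  | some i => sr i

/-- the extended coordinates -/
def ct {l : ℕ} (c : Fin l → ℕ) (c0 : ℕ) : Option (Fin l) → ℕ
  | none => c0
  | some i => c i

/-- the extended marks -/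
def mk (D : ChevalleyDatum) (l : ℕ) : Option (Fin l) → ℤ
  | none => 1
  | some i => hr D l i

/-- the simple affine roots -/
def ea (D : ChevalleyDatum) (l : ℕ) : Option (Fin l) → (Fin l → ℤ) × ℤ
  | none => (-hr D l, 1)
  | some i => (sr i, 0)

/-- the coordinates with respect to the simple affine roots -/
def crd (D : ChevalleyDatum) (l : ℕ) (z : (Fin l → ℤ) × ℤ) : Option (Fin l) → ℤ
  | none => z.2
  | some i => z.1 i + z.2 * hr D l i

theorem ea_fst (j : Option (Fin l)) : (ea D l j).1 = al D l j := by cases j <;> rfl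

theorem sum_crd (z : (Fin l → ℤ) × ℤ) : (∑ j, crd D l z j • ea D l j) = z := by
  rw [Fintype.sum_option]
  apply Prod.ext
  · rw [Prod.fst_add, Prod.fst_sum]
    have h1 : (∑ i : Fin l, (crd D l z (some i) • ea D l (some i)).1) = z.1 + z.2 • hr D l := by
      have e : ∀ i : Fin l, (crd D l z (some i) • ea D l (some i)).1 = (z.1 + z.2 • hr D l) i • (sr i : Fin l → ℤ) := fun i => rfl
      rw [Finset.sum_congr rfl fun i _ => e i, ← IsMC.eq_sum_sr]
    rw [h1]
    show z.2 • (-hr D l) + (z.1 + z.2 • hr D l) = z.1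
    rw [smul_neg]
    abel
  · rw [Prod.snd_add, Prod.snd_sum]
    have e : ∀ i : Fin l, (crd D l z (some i) • ea D l (some i)).2 = 0 := fun i => by
      show crd D l z (some i) • (0 : ℤ) = 0
      rw [smul_zero]
    rw [Finset.sum_congr rfl fun i _ => e i, Finset.sum_const_zero, add_zero]
    show z.2 • (1 : ℤ) = z.2
    rw [smul_eq_mul, mul_one]

theorem crd_add (z w : (Fin l → ℤ) × ℤ) (j : Option (Fin l)) : crd D l (z + w) j = crd D l z j + crd D l w j := by
  cases j with
  | none => rfl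
  | some i =>
    show (z.1 + w.1) i + (z.2 + w.2) * hr D l i = (z.1 i + z.2 * hr D l i) + (w.1 i + w.2 * hr D l i)
    rw [Pi.add_apply]
    ring

/-- the height -/
def aht (D : ChevalleyDatum) (l : ℕ) : ((Fin l → ℤ) × ℤ) →+ ℤ := AddMonoidHom.mk' (fun z => ∑ j, crd D l z j) fun z w => by
  rw [← Finset.sum_add_distrib]
  exact Finset.sum_congr rfl fun j _ => crd_add z w j

theorem aht_apply (z : (Fin l → ℤ) × ℤ) : aht D l z = ∑ j, crd D l z j := rfl

theorem crd_ea (i j : Option (Fin l)) : crd D l (ea D l i) j = if i = j then 1 else 0 := by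
  cases i with
  | none =>
    cases j with
    | none => rfl
    | some j =>
      show (-hr D l) j + 1 * hr D l j = _
      rw [Pi.neg_apply, if_neg (by simp)]
      ring
  | some i =>
    cases j with
    | none => rfl
    | some j =>
      show (sr i : Fin l → ℤ) j + 0 * hr D l j = _
      by_cases h : i = j
      · subst h
        rw [sr_self, if_pos rfl, zero_mul, add_zero]
      · rw [sr_ne (Ne.symm h), if_neg (by simpa using h), zero_mul, add_zero]

theorem aht_ea (j : Option (Fin l)) : aht D l (ea D l j) = 1 := by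
  classical
  rw [aht_apply, Finset.sum_eq_single j]
  · rw [crd_ea, if_pos rfl]
  · intro i _ hi
    rw [crd_ea, if_neg (Ne.symm hi)]
  · intro h
    exact absurd (Finset.mem_univ j) h

theorem ea_inj {i j : Option (Fin l)} (h : ea D l i = ea D l j) : i = j := by
  by_contra hij
  have h1 := crd_ea (D := D) i i
  rw [h, crd_ea, if_pos rfl, if_neg (Ne.symm hij)] at h1
  exact zero_ne_one h1

/-- the positive affine roots -/
def Pos (z : (Fin l → ℤ) × ℤ) : Prop := IsRoot M.toCoxeterSystem hp.isCartan z.1 ∧ (0 < z.2 ∨ (z.2 = 0 ∧ 0 ≤ z.1))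

theorem pos_ea (j : Option (Fin l)) : Pos hp (ea D l j) := by
  obtain ⟨Bm, hv, v, C, H⟩ := exists_ok hp
  cases j with
  | none => exact ⟨(isRoot_hr hp H).neg, Or.inl Int.one_pos⟩
  | some i =>
    refine ⟨isRoot_sr _ _ i, Or.inr ⟨rfl, fun j => ?_⟩⟩
    show (0 : ℤ) ≤ (sr i : Fin l → ℤ) j
    by_cases h : i = j
    · subst h; rw [sr_self]; exact zero_le_one
    · rw [sr_ne (Ne.symm h)]

theorem crd_nonneg {z : (Fin l → ℤ) × ℤ} (hz : Pos hp z) (j : Option (Fin l)) : 0 ≤ crd D l z j := by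
  obtain ⟨Bm, hv, v, C, H⟩ := exists_ok hp
  obtain ⟨h1, h2⟩ := hz
  cases j with
  | none =>
    show 0 ≤ z.2
    omega
  | some i =>
    show 0 ≤ z.1 i + z.2 * hr D l i
    rcases h2 with h2 | ⟨h2, h3⟩
    · have h4 := le_hr hp H h1.neg i
      rw [Pi.neg_apply] at h4
      have h5 := le_hr hp H h1 i
      have h6 : 0 ≤ hr D l i := by omega
      nlinarith only [h2, h4, h5]
    · have := h3 i
      rw [h2, zero_mul, add_zero]
      exact this

theorem one_le_aht {z : (Fin l → ℤ) × ℤ} (hz : Pos hp z) : 1 ≤ aht D l z := by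
  have h0 : ∀ j, 0 ≤ crd D l z j := crd_nonneg hp hz
  by_contra h
  have h1 : (∑ j, crd D l z j) = 0 := le_antisymm (by rw [← aht_apply]; omega) (Finset.sum_nonneg fun j _ => h0 j)
  have h2 := (Finset.sum_eq_zero_iff_of_nonneg fun j _ => h0 j).1 h1
  have h3 : z = 0 := by
    rw [← sum_crd (D := D) z]
    exact Finset.sum_eq_zero fun j hj => by rw [h2 j hj, zero_smul]
  refine hz.1.ne_zero ?_
  rw [h3]
  rfl

/-- **Positive affine maps permute the simple affine roots.** -/
theorem exists_ea {G G' : ((Fin l → ℤ) × ℤ) →+ ((Fin l → ℤ) × ℤ)} (hGG : ∀ z, G (G' z) = z)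
    (hG : ∀ z, Pos hp z → Pos hp (G z)) (hG' : ∀ z, Pos hp z → Pos hp (G' z)) (j : Option (Fin l)) :
    ∃ i, G' (ea D l j) = ea D l i := by
  classical
  set y := G' (ea D l j) with hy
  have h0 := crd_nonneg hp (hG' _ (pos_ea hp j))
  rw [← hy] at h0
  have h1 : (∑ i, crd D l y i * aht D l (G (ea D l i))) = 1 := by
    have e1 : G y = ea D l j := by rw [hy, hGG]
    have e2 := congrArg (fun z => aht D l (G z)) (sum_crd (D := D) y)
    simp only [e1, aht_ea, map_sum, map_zsmul, smul_eq_mul] at e2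
    exact e2
  have h2 : ∀ i, 1 ≤ aht D l (G (ea D l i)) := fun i => one_le_aht hp (hG _ (pos_ea hp i))
  -- some coordinate is positive
  have h3 : ∃ i, 0 < crd D l y i := by
    by_contra h
    push Not at h
    have h4 : (∑ i, crd D l y i * aht D l (G (ea D l i))) = 0 := Finset.sum_eq_zero fun i _ => by
      rw [le_antisymm (h i) (h0 i), zero_mul]
    omega
  obtain ⟨i, hi⟩ := h3
  have hnn : ∀ i ∈ Finset.univ, 0 ≤ crd D l y i * aht D l (G (ea D l i)) := fun i _ =>
    mul_nonneg (h0 i) (by have := h2 i; omega)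
  have h5 := Finset.add_sum_erase Finset.univ (fun i => crd D l y i * aht D l (G (ea D l i))) (Finset.mem_univ i)
  simp only [h1] at h5
  have h6 : 0 ≤ ∑ x ∈ Finset.univ.erase i, crd D l y x * aht D l (G (ea D l x)) :=
    Finset.sum_nonneg fun x _ => hnn x (Finset.mem_univ x)
  have h7 : 1 ≤ crd D l y i * aht D l (G (ea D l i)) := by have := h2 i; nlinarith only [hi, this]
  have h8 : (∑ x ∈ Finset.univ.erase i, crd D l y x * aht D l (G (ea D l x))) = 0 := by omega
  have h9 := (Finset.sum_eq_zero_iff_of_nonneg fun x _ => hnn x (Finset.mem_univ x)).1 h8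
  have h10 : crd D l y i = 1 := by
    have h11 : crd D l y i * aht D l (G (ea D l i)) = 1 := by omega
    have := h2 i
    nlinarith only [hi, h5, h6, this]
  refine ⟨i, ?_⟩
  rw [← sum_crd (D := D) y, Finset.sum_eq_single i]
  · rw [h10, one_smul]
  · intro x _ hx
    have h12 := h9 x (Finset.mem_erase.2 ⟨hx, Finset.mem_univ x⟩)
    have h13 := (mul_eq_zero.1 h12).resolve_right (by have := h2 x; omega)
    rw [h13, zero_smul]
  · intro h
    exact absurd (Finset.mem_univ i) h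

section stab

variable {n : ℕ} {c : Fin l → ℕ} {c0 : ℕ} (K : Kac D l n c c0)

/-- the functional -/
def bb {l : ℕ} (c : Fin l → ℕ) : (Fin l → ℤ) →+ ℤ := psi fun i => (c i : ℤ)

/-- the positive system of the roots of the centralizer -/
def SJ (n : ℕ) (c : Fin l → ℕ) (x : Fin l → ℤ) : Prop :=
  IsRoot M.toCoxeterSystem hp.isCartan x ∧ ((bb c x = 0 ∧ 0 ≤ x) ∨ bb c x = -n)

theorem bb_nonneg {x : Fin l → ℤ} (hx : 0 ≤ x) : 0 ≤ bb c x := by
  show 0 ≤ ∑ i, x i * (c i : ℤ)
  exact Finset.sum_nonneg fun i _ => mul_nonneg (hx i) (Int.natCast_nonneg _)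

include K in
theorem bb_hr : bb c (hr D l) = n - c0 := by
  have h1 := K.sum
  show (∑ i, hr D l i * (c i : ℤ)) = n - c0
  omega

include K in
theorem bb_le {x : Fin l → ℤ} (hx : IsRoot M.toCoxeterSystem hp.isCartan x) : bb c x ≤ n := by
  obtain ⟨Bm, hv, v, C, H⟩ := exists_ok hp
  have h1 : bb c x ≤ bb c (hr D l) := by
    show (∑ i, x i * (c i : ℤ)) ≤ ∑ i, hr D l i * (c i : ℤ)
    exact Finset.sum_le_sum fun i _ => mul_le_mul_of_nonneg_right (le_hr hp H hx i) (Int.natCast_nonneg _)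
  rw [bb_hr K] at h1
  have : (0 : ℤ) ≤ c0 := by positivity
  omega

include K in
/-- the value of a positive affine root is nonnegative -/
theorem val_nonneg {z : (Fin l → ℤ) × ℤ} (hz : Pos hp z) : 0 ≤ bb c z.1 + n * z.2 := by
  obtain ⟨h1, h2⟩ := hz
  have hn : (0 : ℤ) < n := by exact_mod_cast K.pos
  rcases h2 with h2 | ⟨h2, h3⟩
  · have h4 := bb_le hp K h1.neg
    rw [map_neg] at h4
    nlinarith only [h2, h4]
  · rw [h2, mul_zero, add_zero]
    exact bb_nonneg h3

theorem neg_of_not {x : Fin l → ℤ} (hx : IsRoot M.toCoxeterSystem hp.isCartan x) (h : ¬ 0 ≤ x) : 0 ≤ -x := by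
  rcases hx.pos_or_neg with h1 | h1
  · exact absurd h1 h
  · exact neg_nonneg.2 h1

include K in
/-- a positive affine root of value zero -/
theorem SJ_of_val {z : (Fin l → ℤ) × ℤ} (hz : Pos hp z) (h : bb c z.1 + n * z.2 = 0) : SJ hp n c z.1 := by
  obtain ⟨h1, h2⟩ := hz
  have hn : (0 : ℤ) < n := by exact_mod_cast K.pos
  refine ⟨h1, ?_⟩
  rcases h2 with h2 | ⟨h2, h3⟩
  · right
    have h4 := bb_le hp K h1.neg
    rw [map_neg] at h4
    have h5 : z.2 = 1 := by nlinarith
    rw [h5] at h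
    omega
  · left
    rw [h2, mul_zero, add_zero] at h
    exact ⟨h, h3⟩

include K in
/-- an affine root of nonnegative value which is positive if the value is zero -/
theorem pos_of_val {z : (Fin l → ℤ) × ℤ} (h1 : IsRoot M.toCoxeterSystem hp.isCartan z.1)
    (h2 : 0 ≤ bb c z.1 + n * z.2) (h3 : bb c z.1 + n * z.2 = 0 → SJ hp n c z.1) : Pos hp z := by
  have hn : (0 : ℤ) < n := by exact_mod_cast K.pos
  refine ⟨h1, ?_⟩
  by_contra h
  push Not at h
  obtain ⟨h4, h5⟩ := h
  rcases h4.lt_or_eq with h6 | h6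
  · have h7 := bb_le hp K h1
    have h8 : bb c z.1 + n * z.2 = 0 := by nlinarith only [h2, h6, h7]
    obtain ⟨-, h9 | h9⟩ := h3 h8
    · rw [h9.1, zero_add] at h8
      rcases mul_eq_zero.1 h8 with h10 | h10 <;> omega
    · rw [h9] at h8
      nlinarith only [hn, h4, h8]
  · have h7 : 0 ≤ -z.1 := neg_of_not hp h1 (h5 h6)
    have h8 := bb_nonneg (c := c) h7
    rw [map_neg] at h8
    rw [h6, mul_zero, add_zero] at h2 h3
    have h9 : bb c z.1 = 0 := by omega
    obtain ⟨-, h10 | h10⟩ := h3 h9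
    · exact h5 h6 h10.2
    · rw [h9] at h10
      omega

/-- the affine map -/
noncomputable def aff (v : M.Group) (μ : (Fin l → ℤ) →+ ℤ) : ((Fin l → ℤ) × ℤ) →+ ((Fin l → ℤ) × ℤ) where
  toFun z := (rep M.toCoxeterSystem hp.isCartan v z.1, z.2 - μ z.1)
  map_zero' := by
    show (rep M.toCoxeterSystem hp.isCartan v 0, (0 : ℤ) - μ 0) = 0
    rw [map_zero, map_zero, sub_zero]
    rfl
  map_add' z w := by
    apply Prod.ext
    · exact map_add _ z.1 w.1
    · show z.2 + w.2 - μ (z.1 + w.1) = (z.2 - μ z.1) + (w.2 - μ w.1)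
      rw [map_add]
      ring

include K in
theorem aff_pos {v : M.Group} {μ : (Fin l → ℤ) →+ ℤ}
    (hμ : ∀ x, bb c (rep M.toCoxeterSystem hp.isCartan v x) = bb c x + n * μ x)
    (hS : ∀ x, SJ hp n c x → SJ hp n c (rep M.toCoxeterSystem hp.isCartan v x)) (z : (Fin l → ℤ) × ℤ)
    (hz : Pos hp z) : Pos hp (aff hp v μ z) := by
  have e : bb c (aff hp v μ z).1 + n * (aff hp v μ z).2 = bb c z.1 + n * z.2 := by
    show bb c (rep M.toCoxeterSystem hp.isCartan v z.1) + n * (z.2 - μ z.1) = _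
    rw [hμ]
    ring
  refine pos_of_val hp K (hz.1.act v) (by rw [e]; exact val_nonneg hp K hz) fun h => ?_
  rw [e] at h
  exact hS _ (SJ_of_val hp K hz h)

theorem exists_mu {v : M.Group} (hv : ∀ x, (n : ℤ) ∣ bb c (rep M.toCoxeterSystem hp.isCartan v x) - bb c x) :
    ∃ μ : (Fin l → ℤ) →+ ℤ, ∀ x, bb c (rep M.toCoxeterSystem hp.isCartan v x) = bb c x + n * μ x := by
  choose m hm using fun i : Fin l => hv (sr i)
  refine ⟨psi m, fun x => ?_⟩
  have h1 := eq_psi ((bb c).comp (rep M.toCoxeterSystem hp.isCartan v).toAddMonoidHom) x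
  have h2 : (bb c).comp (rep M.toCoxeterSystem hp.isCartan v).toAddMonoidHom x =
    bb c (rep M.toCoxeterSystem hp.isCartan v x) := rfl
  rw [← h2, h1, eq_psi (bb c) x, psi_apply, Finset.mul_sum, ← Finset.sum_add_distrib]
  refine Finset.sum_congr rfl fun i _ => ?_
  have h3 : (bb c).comp (rep M.toCoxeterSystem hp.isCartan v).toAddMonoidHom (sr i) =
    bb c (rep M.toCoxeterSystem hp.isCartan v (sr i)) := rfl
  rw [h3]
  linear_combination x i * hm i

/-- the inverse preserves the positive system -/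
theorem SJ_inv {v : M.Group} (hS : ∀ x, SJ hp n c x → SJ hp n c (rep M.toCoxeterSystem hp.isCartan v x)) (x : Fin l → ℤ)
    (hx : SJ hp n c x) : SJ hp n c (rep M.toCoxeterSystem hp.isCartan v⁻¹ x) := by
  have hfin : Finite M.Group := finite_W hp M.toCoxeterSystem
  obtain ⟨k, hk, hvk⟩ : ∃ k, 0 < k ∧ v ^ k = 1 := ⟨orderOf v, orderOf_pos v, pow_orderOf_eq_one v⟩
  have h1 : v⁻¹ = v ^ (k - 1) := by
    rw [inv_eq_iff_mul_eq_one, ← pow_succ', Nat.sub_add_cancel hk, hvk]
  rw [h1]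
  clear h1
  induction (k - 1) with
  | zero => rw [pow_zero, map_one, Module.End.one_apply]; exact hx
  | succ m ih =>
    rw [pow_succ', rep_mul_apply]
    exact hS _ ih

include K in
/-- **The elements of the stabiliser which preserve the positive system permute the extended simple roots.** -/
theorem diag {v : M.Group} (hv : ∀ x, (n : ℤ) ∣ bb c (rep M.toCoxeterSystem hp.isCartan v x) - bb c x)
    (hS : ∀ x, SJ hp n c x → SJ hp n c (rep M.toCoxeterSystem hp.isCartan v x)) :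
    ∃ π : Equiv.Perm (Option (Fin l)), (∀ i, rep M.toCoxeterSystem hp.isCartan v (al D l i) = al D l (π i)) ∧
      ∀ i, ct c c0 (π i) = ct c c0 i := by
  obtain ⟨μ, hμ⟩ := exists_mu hp hv
  have hv' : ∀ x, (n : ℤ) ∣ bb c (rep M.toCoxeterSystem hp.isCartan v⁻¹ x) - bb c x := fun x => by
    have h1 := hv (rep M.toCoxeterSystem hp.isCartan v⁻¹ x)
    rw [rep_apply_inv] at h1
    rw [← dvd_neg, neg_sub]
    exact h1
  obtain ⟨μ', hμ'⟩ := exists_mu hp hv'
  have hn : (n : ℤ) ≠ 0 := by have := K.pos; positivity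
  have hm1 : ∀ x, μ' x + μ (rep M.toCoxeterSystem hp.isCartan v⁻¹ x) = 0 := fun x => by
    have h1 := hμ (rep M.toCoxeterSystem hp.isCartan v⁻¹ x)
    rw [rep_apply_inv, hμ'] at h1
    have h2 : (n : ℤ) * (μ' x + μ (rep M.toCoxeterSystem hp.isCartan v⁻¹ x)) = 0 := by linear_combination -h1
    exact (mul_eq_zero.1 h2).resolve_left hn
  have hm2 : ∀ x, μ x + μ' (rep M.toCoxeterSystem hp.isCartan v x) = 0 := fun x => by
    have h1 := hm1 (rep M.toCoxeterSystem hp.isCartan v x)
    rw [rep_inv_apply] at h1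
    omega
  have h1 : ∀ z, aff hp v μ (aff hp v⁻¹ μ' z) = z := fun z => by
    apply Prod.ext
    · exact rep_apply_inv _ _ _ _
    · show z.2 - μ' z.1 - μ (rep M.toCoxeterSystem hp.isCartan v⁻¹ z.1) = z.2
      have := hm1 z.1
      omega
  have h2 : ∀ z, aff hp v⁻¹ μ' (aff hp v μ z) = z := fun z => by
    apply Prod.ext
    · exact rep_inv_apply _ _ _ _
    · show z.2 - μ z.1 - μ' (rep M.toCoxeterSystem hp.isCartan v z.1) = z.2
      have := hm2 z.1
      omega
  have hS' := SJ_inv hp hS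
  have h3 := exists_ea hp h2 (aff_pos hp K hμ' hS') (aff_pos hp K hμ hS)
  choose f hf using h3
  have hinj : Function.Injective f := by
    intro i j hij
    have h4 : aff hp v μ (ea D l i) = aff hp v μ (ea D l j) := by rw [hf, hf, hij]
    have h5 := congrArg (aff hp v⁻¹ μ') h4
    rw [h2, h2] at h5
    exact ea_inj h5
  refine ⟨Equiv.ofBijective f (Finite.injective_iff_bijective.1 hinj), fun i => ?_, fun i => ?_⟩
  · have h4 := congrArg Prod.fst (hf i)
    rw [ea_fst] at h4
    rw [Equiv.ofBijective_apply, ← h4, ← ea_fst]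
    rfl
  · rw [Equiv.ofBijective_apply]
    have hval : ∀ j, bb c (ea D l j).1 + n * (ea D l j).2 = ct c c0 j := by
      intro j
      cases j with
      | none =>
        show bb c (-hr D l) + n * 1 = c0
        rw [map_neg, bb_hr K]
        ring
      | some j =>
        show bb c (sr j) + n * 0 = c j
        unfold bb
        rw [psi_sr]
        ring
    have h4 := hval (f i)
    rw [← hf i] at h4
    have h5 : bb c (aff hp v μ (ea D l i)).1 + n * (aff hp v μ (ea D l i)).2 = bb c (ea D l i).1 + n * (ea D l i).2 := by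
      show bb c (rep M.toCoxeterSystem hp.isCartan v (ea D l i).1) + n * ((ea D l i).2 - μ (ea D l i).1) = _
      rw [hμ]
      ring
    rw [h5, hval i] at h4
    exact_mod_cast h4.symm

end stab

end Cfsg.Agent.H931.KC
end

-- part: H931/KC/Rigid
section
/-!
# Permutations of the extended simple roots (S3509, helper931)

`mk_perm`, `bl_perm` : an element `v` of the Weyl group which permutes the extended simple roots preserves the marks and the form;
`eq_one_of_rigid` : `v = 1` if the extended diagram is rigid (`G₂`, `F₄`, `E₈`): `rigid_G2`, `rigid_F4`, `rigid_E8`;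
`stab_one` : the elements of the stabiliser preserving the positive system are trivial for `G₂`, `F₄`, `E₈`.
-/

set_option autoImplicit false
set_option linter.unusedSectionVars false
set_option maxRecDepth 100000

namespace Cfsg.Agent.H931.KC

open CoxeterSystem Cfsg Cfsg.Lie Cfsg.Lie.ChevalleyDatum
open Cfsg.Agent.ChevalleyStructure Cfsg.Agent.ChevalleyStructure.Elts Cfsg.Agent.ChevalleyStructure.CoxeterGeom
  Cfsg.Agent.ChevalleyStructure.CoxeterGeomTypes Cfsg.Agent.ChevalleyStructure.NPerm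
open Cfsg.Agent.Tits.Roots Cfsg.Agent.Tits.Core Cfsg.Agent.Nodes Cfsg.Agent.Nodes.Reps Cfsg.Agent.Nodes.BNOf
  Cfsg.Agent.Nodes.RGDChev Cfsg.Agent.Nodes.Bruhat
open Cfsg.Agent.H129.TorusChar Cfsg.Agent.H129.WData
open Cfsg.Agent.H92.NE (bl bl_apply bl_comm bl_sr bl_sr_sr FormOK bl_rep)

variable {D : ChevalleyDatum} {l : ℕ} {M : CoxeterMatrix (Fin l)} (hp : IsType D l M)

theorem sum_mk : (∑ j, mk D l j • al D l j) = 0 := by
  rw [Fintype.sum_option]
  have h1 : (∑ i : Fin l, mk D l (some i) • al D l (some i)) = hr D l := (IsMC.eq_sum_sr (hr D l)).symm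
  rw [h1]
  show (1 : ℤ) • (-hr D l) + hr D l = 0
  rw [one_smul, neg_add_cancel]

include hp in
theorem mk_pos (j : Option (Fin l)) : 0 < mk D l j := by
  obtain ⟨Bm, hv, v, C, H⟩ := exists_ok hp
  cases j with
  | none => exact Int.one_pos
  | some i =>
    have h1 := le_hr hp H (isRoot_sr M.toCoxeterSystem hp.isCartan i) i
    rw [sr_self] at h1
    show 0 < hr D l i
    omega

section

variable {v : M.Group} {π : Equiv.Perm (Option (Fin l))}
  (h : ∀ i, rep M.toCoxeterSystem hp.isCartan v (al D l i) = al D l (π i))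

include h in
/-- the marks are preserved -/
theorem mk_perm (i : Option (Fin l)) : mk D l (π i) = mk D l i := by
  -- the relation
  have h1 : (∑ j, mk D l (π.symm j) • al D l j) = 0 := by
    have h2 := congrArg (rep M.toCoxeterSystem hp.isCartan v) (sum_mk (D := D) (l := l))
    rw [map_sum, map_zero] at h2
    rw [← h2, ← Equiv.sum_comp π]
    refine Finset.sum_congr rfl fun j _ => ?_
    rw [π.symm_apply_apply, map_zsmul, h]
  -- the multiple
  have h3 : ∀ i : Fin l, mk D l (π.symm (some i)) = mk D l (π.symm none) * hr D l i := by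
    intro i
    have h4 := congrFun h1 i
    rw [Fintype.sum_option] at h4
    have h5 : (∑ j : Fin l, mk D l (π.symm (some j)) • al D l (some j)) = fun j => mk D l (π.symm (some j)) :=
      (IsMC.eq_sum_sr (fun j => mk D l (π.symm (some j)))).symm
    rw [h5] at h4
    have h6 : mk D l (π.symm none) * (-hr D l i) + mk D l (π.symm (some i)) = 0 := h4
    linear_combination h6
  have h7 : ∀ j, mk D l (π.symm j) = mk D l (π.symm none) * mk D l j := by
    intro j
    cases j with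
    | none => exact (mul_one _).symm
    | some i => exact h3 i
  have h8 : (∑ j, mk D l (π.symm j)) = ∑ j, mk D l j := Equiv.sum_comp π.symm fun j => mk D l j
  rw [Finset.sum_congr rfl fun j _ => h7 j, ← Finset.mul_sum] at h8
  have h9 : 0 < ∑ j, mk D l j := Finset.sum_pos (fun j _ => mk_pos hp j) ⟨none, Finset.mem_univ _⟩
  have h10 : mk D l (π.symm none) = 1 := by nlinarith
  have h11 := h7 (π i)
  rw [π.symm_apply_apply, h10, one_mul] at h11
  exact h11.symm

include h in
/-- the form is preserved -/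
theorem bl_perm {Bm : Mat l} (hF : FormOK D l Bm) (i j : Option (Fin l)) :
    bl Bm (al D l (π i)) (al D l (π j)) = bl Bm (al D l i) (al D l j) := by
  rw [← h, ← h, bl_rep hp hF]

/-- the check for rigidity: `o` enumerates the nodes, every node is determined by its mark and the form with the earlier nodes -/
def Rig (D : ChevalleyDatum) (l : ℕ) (Bm : Mat l) (o : Fin (l + 1) → Option (Fin l)) : Prop :=
  (∀ j, ∃ k, o k = j) ∧ ∀ k y, (mk D l y = mk D l (o k) ∧ ∀ m, m < k → bl Bm (al D l (o m)) (al D l y) =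
    bl Bm (al D l (o m)) (al D l (o k))) → y = o k

instance (D : ChevalleyDatum) (l : ℕ) (Bm : Mat l) (o : Fin (l + 1) → Option (Fin l)) : Decidable (Rig D l Bm o) := by
  unfold Rig; infer_instance

include h in
/-- **Rigidity.** -/
theorem eq_one_of_rigid {Bm : Mat l} (hF : FormOK D l Bm) {o : Fin (l + 1) → Option (Fin l)} (hR : Rig D l Bm o) :
    v = 1 := by
  have h1 : ∀ N : ℕ, ∀ k : Fin (l + 1), (k : ℕ) < N → π (o k) = o k := by
    intro N
    induction N with
    | zero => intro k hk; exact absurd hk (Nat.not_lt_zero _)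
    | succ N ih =>
      intro k hk
      refine hR.2 k _ ⟨mk_perm hp h _, fun m hm => ?_⟩
      have h2 := bl_perm hp h hF (o m) (o k)
      rwa [ih m (lt_of_lt_of_le hm (Nat.lt_succ_iff.1 hk))] at h2
  have h3 : ∀ j, π j = j := fun j => by
    obtain ⟨k, rfl⟩ := hR.1 j
    exact h1 (k + 1) k (Nat.lt_succ_self _)
  refine eq_one_of_fix M.toCoxeterSystem hp.isCartan v fun i => ?_
  have h4 := h (some i)
  rw [h3] at h4
  exact h4

end

theorem rigid_G2 : Rig chevG2 2 ![![2, -3], ![-3, 6]] ![none, some 1, some 0] := by decide +kernel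
theorem rigid_F4 : Rig chevF4 4 ![![2, -1, 0, 0], ![-1, 2, -2, 0], ![0, -2, 4, -2], ![0, 0, -2, 4]]
    ![none, some 3, some 2, some 1, some 0] := by decide +kernel
theorem rigid_E8 : Rig chevE8 8 ![![2, 0, -1, 0, 0, 0, 0, 0], ![0, 2, 0, -1, 0, 0, 0, 0], ![-1, 0, 2, -1, 0, 0, 0, 0],
    ![0, -1, -1, 2, -1, 0, 0, 0], ![0, 0, 0, -1, 2, -1, 0, 0], ![0, 0, 0, 0, -1, 2, -1, 0],
    ![0, 0, 0, 0, 0, -1, 2, -1], ![0, 0, 0, 0, 0, 0, -1, 2]]
    ![none, some 7, some 6, some 5, some 4, some 3, some 2, some 1, some 0] := by decide +kernel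

/-- the types with a rigid extended diagram -/
def RigT (D : ChevalleyDatum) : Prop := D = chevG2 ∨ D = chevF4 ∨ D = chevE8

include hp in
theorem exists_rig (hD : RigT D) : ∃ (Bm : Mat l) (o : Fin (l + 1) → Option (Fin l)), FormOK D l Bm ∧ Rig D l Bm o := by
  have hl : l = D.rank := hp.rank_eq.symm
  rcases hD with h | h | h
  · obtain rfl : l = 2 := by rw [hl, h]; decide +kernel
    subst h
    exact ⟨_, _, ok_G2.1, rigid_G2⟩
  · obtain rfl : l = 4 := by rw [hl, h]; decide +kernel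
    subst h
    exact ⟨_, _, ok_F4.1, rigid_F4⟩
  · obtain rfl : l = 8 := by rw [hl, h]; decide +kernel
    subst h
    exact ⟨_, _, ok_E8.1, rigid_E8⟩

/-- **The elements of the stabiliser preserving the positive system are trivial for `G₂`, `F₄`, `E₈`.** -/
theorem stab_one (hD : RigT D) {n : ℕ} {c : Fin l → ℕ} {c0 : ℕ} (K : Kac D l n c c0) {v : M.Group}
    (hv : ∀ x, (n : ℤ) ∣ bb c (rep M.toCoxeterSystem hp.isCartan v x) - bb c x)
    (hS : ∀ x, SJ hp n c x → SJ hp n c (rep M.toCoxeterSystem hp.isCartan v x)) : v = 1 := by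
  obtain ⟨π, h1, -⟩ := diag hp K hv hS
  obtain ⟨Bm, o, hF, hR⟩ := exists_rig hp hD
  exact eq_one_of_rigid hp h1 hF hR

end Cfsg.Agent.H931.KC
end

-- part: H931/KC/Base
section
/-!
# The base of the centralizer (S3509, helper931)

`b = bb c`, Kac coordinates `c`, `c0` of degree `n`; `J = {j | ct c c0 j = 0}`.
* `SJ_iff` : the positive system consists of the roots `∑_{j ∈ J} m j • al j` with `0 ≤ m j` (`exists_coef`, `SJ_al`);
* `base_perm` : an automorphism `θ` of the root lattice with `θ(SJ) ⊆ SJ`, preserving `{x | n ∣ b x}`, permutes `{al j | j ∈ J}`.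
-/

set_option autoImplicit false
set_option linter.unusedSectionVars false

namespace Cfsg.Agent.H931.KC

open CoxeterSystem Cfsg Cfsg.Lie Cfsg.Lie.ChevalleyDatum
open Cfsg.Agent.ChevalleyStructure Cfsg.Agent.ChevalleyStructure.Elts Cfsg.Agent.ChevalleyStructure.CoxeterGeom
  Cfsg.Agent.ChevalleyStructure.CoxeterGeomTypes Cfsg.Agent.ChevalleyStructure.NPerm
open Cfsg.Agent.Tits.Roots Cfsg.Agent.Tits.Core Cfsg.Agent.Nodes Cfsg.Agent.Nodes.Reps Cfsg.Agent.Nodes.BNOf
  Cfsg.Agent.Nodes.RGDChev Cfsg.Agent.Nodes.Bruhat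
open Cfsg.Agent.H129.TorusChar Cfsg.Agent.H129.WData

variable {D : ChevalleyDatum} {l : ℕ} {M : CoxeterMatrix (Fin l)} (hp : IsType D l M)
  {n : ℕ} {c : Fin l → ℕ} {c0 : ℕ} (K : Kac D l n c c0)

/-- the value of an affine weight in coordinates -/
theorem val_eq (hsum : (c0 : ℤ) + ∑ i, hr D l i * c i = n) (z : (Fin l → ℤ) × ℤ) :
    bb c z.1 + n * z.2 = ∑ j, crd D l z j * ct c c0 j := by
  rw [Fintype.sum_option]
  show (∑ i, z.1 i * (c i : ℤ)) + n * z.2 = z.2 * c0 + ∑ i, (z.1 i + z.2 * hr D l i) * (c i : ℤ)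
  have h1 : (∑ i, (z.1 i + z.2 * hr D l i) * (c i : ℤ)) = (∑ i, z.1 i * (c i : ℤ)) + z.2 * ∑ i, hr D l i * c i := by
    rw [Finset.mul_sum, ← Finset.sum_add_distrib]
    exact Finset.sum_congr rfl fun i _ => by ring
  rw [h1]
  linear_combination (-z.2) * hsum

/-- the level of a root of the positive system -/
def lev (n : ℕ) (c : Fin l → ℕ) (x : Fin l → ℤ) : ℤ := -(bb c x / n)

include K in
theorem SJ_pos {x : Fin l → ℤ} (hx : SJ hp n c x) : Pos hp (x, lev n c x) ∧ bb c x + n * lev n c x = 0 := by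
  have hn : (0 : ℤ) < n := by exact_mod_cast K.pos
  obtain ⟨h1, ⟨h2, h3⟩ | h2⟩ := hx
  · have h4 : lev n c x = 0 := by unfold lev; rw [h2, Int.zero_ediv, neg_zero]
    rw [h4]
    exact ⟨⟨h1, Or.inr ⟨rfl, h3⟩⟩, by rw [h2]; ring⟩
  · have h4 : lev n c x = 1 := by
      unfold lev
      rw [h2, Int.neg_ediv_of_dvd (dvd_refl _), Int.ediv_self hn.ne', neg_neg]
    rw [h4]
    exact ⟨⟨h1, Or.inl Int.one_pos⟩, by rw [h2]; ring⟩

include K in
/-- **Coefficients.** -/
theorem exists_coef {x : Fin l → ℤ} (hx : SJ hp n c x) : ∃ m : Option (Fin l) → ℤ, (∀ j, 0 ≤ m j) ∧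
    (∀ j, m j ≠ 0 → ct c c0 j = 0) ∧ x = ∑ j, m j • al D l j := by
  obtain ⟨h1, h2⟩ := SJ_pos hp K hx
  refine ⟨crd D l (x, lev n c x), crd_nonneg hp h1, fun j hj => ?_, ?_⟩
  · have h3 := val_eq K.sum (x, lev n c x)
    rw [h2] at h3
    have h4 := (Finset.sum_eq_zero_iff_of_nonneg fun i _ =>
      mul_nonneg (crd_nonneg hp h1 i) (Int.natCast_nonneg (ct c c0 i))).1 h3.symm j (Finset.mem_univ j)
    exact_mod_cast (mul_eq_zero.1 h4).resolve_left hj
  · have h3 := congrArg Prod.fst (sum_crd (D := D) (x, lev n c x))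
    rw [Prod.fst_sum] at h3
    refine h3.symm.trans (Finset.sum_congr rfl fun j _ => ?_)
    rw [Prod.smul_fst, ea_fst]

include K in
/-- the base belongs to the positive system -/
theorem SJ_al {j : Option (Fin l)} (hj : ct c c0 j = 0) : SJ hp n c (al D l j) := by
  have h1 := pos_ea hp j
  rw [← ea_fst]
  refine SJ_of_val hp K h1 ?_
  rw [val_eq K.sum]
  refine Finset.sum_eq_zero fun i _ => ?_
  rw [crd_ea]
  by_cases h : j = i
  · subst h
    rw [hj, Nat.cast_zero, mul_zero]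
  · rw [if_neg h, zero_mul]

include K in
/-- the roots with `n ∣ b a` are the positive system and its negative -/
theorem dvd_iff_SJ {a : Fin l → ℤ} (ha : IsRoot M.toCoxeterSystem hp.isCartan a) :
    (n : ℤ) ∣ bb c a ↔ SJ hp n c a ∨ SJ hp n c (-a) := by
  have hn : (0 : ℤ) < n := by exact_mod_cast K.pos
  constructor
  · rintro ⟨m, hm⟩
    have h1 := bb_le hp K ha
    have h2 := bb_le hp K ha.neg
    rw [map_neg] at h2
    have h3 : m ≤ 1 := by nlinarith only [hn, hm, h1]
    have h4 : -1 ≤ m := by nlinarith only [hn, hm, h2]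
    have h5 : m = -1 ∨ m = 0 ∨ m = 1 := by omega
    rcases h5 with rfl | rfl | rfl
    · exact Or.inl ⟨ha, Or.inr (by rw [hm]; ring)⟩
    · rw [mul_zero] at hm
      rcases ha.pos_or_neg with h6 | h6
      · exact Or.inl ⟨ha, Or.inl ⟨hm, h6⟩⟩
      · exact Or.inr ⟨ha.neg, Or.inl ⟨by rw [map_neg, hm, neg_zero], neg_nonneg.2 h6⟩⟩
    · exact Or.inr ⟨ha.neg, Or.inr (by rw [map_neg, hm]; ring)⟩
  · rintro (⟨-, ⟨h, -⟩ | h⟩ | ⟨-, ⟨h, -⟩ | h⟩)
    · rw [h]; exact dvd_zero _
    · rw [h]; exact ⟨-1, by ring⟩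
    · rw [map_neg, neg_eq_zero] at h; rw [h]; exact dvd_zero _
    · rw [map_neg] at h; exact ⟨1, by linear_combination -h⟩

section theta

variable {θ θ' : (Fin l → ℤ) →+ (Fin l → ℤ)}

/-- the height with respect to the base, on `{x | n ∣ b x}` -/
def htJ (D : ChevalleyDatum) (l n : ℕ) (c : Fin l → ℕ) (x : Fin l → ℤ) : ℤ := aht D l (x, lev n c x)

theorem lev_add {x y : Fin l → ℤ} (hx : (n : ℤ) ∣ bb c x) : lev n c (x + y) = lev n c x + lev n c y := by
  unfold lev
  rw [map_add, Int.add_ediv_of_dvd_left hx]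
  ring

theorem lev_zero : lev n c 0 = 0 := by
  unfold lev
  rw [map_zero, Int.zero_ediv, neg_zero]

theorem htJ_add {x y : Fin l → ℤ} (hx : (n : ℤ) ∣ bb c x) :
    htJ D l n c (x + y) = htJ D l n c x + htJ D l n c y := by
  unfold htJ
  rw [lev_add hx, ← map_add]
  rfl

theorem htJ_zero : htJ D l n c 0 = 0 := by
  unfold htJ
  rw [lev_zero]
  exact map_zero (aht D l)

theorem htJ_sum {ι : Type*} (s : Finset ι) (f : ι → Fin l → ℤ) (hf : ∀ i ∈ s, (n : ℤ) ∣ bb c (f i)) :
    htJ D l n c (∑ i ∈ s, f i) = ∑ i ∈ s, htJ D l n c (f i) := by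
  classical
  induction s using Finset.induction_on with
  | empty => rw [Finset.sum_empty, Finset.sum_empty, htJ_zero]
  | insert i s hi ih =>
    rw [Finset.sum_insert hi, Finset.sum_insert hi, htJ_add (hf i (Finset.mem_insert_self i s)),
      ih fun j hj => hf j (Finset.mem_insert_of_mem hj)]

theorem htJ_smul (m : ℤ) {x : Fin l → ℤ} (hx : (n : ℤ) ∣ bb c x) :
    htJ D l n c (m • x) = m * htJ D l n c x := by
  unfold htJ
  have h1 : lev n c (m • x) = m * lev n c x := by
    unfold lev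
    rw [map_zsmul, smul_eq_mul, Int.mul_ediv_assoc _ hx]
    ring
  rw [h1, ← smul_eq_mul m (aht D l _), ← map_zsmul]
  rfl

include K in
theorem one_le_htJ {x : Fin l → ℤ} (hx : SJ hp n c x) : 1 ≤ htJ D l n c x := one_le_aht hp (SJ_pos hp K hx).1

include K in
theorem SJ_dvd {x : Fin l → ℤ} (hx : SJ hp n c x) : (n : ℤ) ∣ bb c x := (dvd_iff_SJ hp K hx.1).2 (Or.inl hx)

include hp K in
theorem htJ_al {j : Option (Fin l)} (hj : ct c c0 j = 0) : htJ D l n c (al D l j) = 1 := by
  have hn : (0 : ℤ) < n := by exact_mod_cast K.pos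
  have h1 := (SJ_pos hp K (SJ_al hp K hj)).2
  have h2 : bb c (ea D l j).1 + n * (ea D l j).2 = 0 := by
    rw [val_eq K.sum]
    refine Finset.sum_eq_zero fun i _ => ?_
    rw [crd_ea]
    by_cases h : j = i
    · subst h
      rw [hj, Nat.cast_zero, mul_zero]
    · rw [if_neg h, zero_mul]
  rw [ea_fst] at h2
  have h3 : lev n c (al D l j) = (ea D l j).2 := by nlinarith only [hn, h1, h2]
  unfold htJ
  rw [h3]
  have h4 : ((al D l j, (ea D l j).2) : (Fin l → ℤ) × ℤ) = ea D l j := Prod.ext (ea_fst j).symm rfl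
  rw [h4, aht_ea]

include K in
/-- the preimage of an element of the base is in the base -/
theorem exists_al (hθθ : ∀ x, θ (θ' x) = x) (hS : ∀ x, SJ hp n c x → SJ hp n c (θ x))
    (hS' : ∀ x, SJ hp n c x → SJ hp n c (θ' x)) {j : Option (Fin l)} (hj : ct c c0 j = 0) :
    ∃ i, ct c c0 i = 0 ∧ θ' (al D l j) = al D l i := by
  classical
  obtain ⟨m, hm0, hmc, hm⟩ := exists_coef hp K (hS' _ (SJ_al hp K hj))
  set s : Finset (Option (Fin l)) := Finset.univ.filter fun j => ct c c0 j = 0 with hs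
  have hmem : ∀ i, i ∈ s ↔ ct c c0 i = 0 := fun i => by rw [hs, Finset.mem_filter]; simp only [_root_.Finset.mem_univ, _root_.true_and]
  have hm' : θ' (al D l j) = ∑ i ∈ s, m i • al D l i := by
    rw [hm]
    symm
    refine Finset.sum_subset (Finset.subset_univ s) fun i _ hi => ?_
    rw [hmem] at hi
    rw [not_not.1 fun h => hi (hmc i h), zero_smul]
  have hdal : ∀ i ∈ s, (n : ℤ) ∣ bb c (al D l i) := fun i hi => SJ_dvd hp K (SJ_al hp K ((hmem i).1 hi))
  have hdθ : ∀ i ∈ s, (n : ℤ) ∣ bb c (θ (al D l i)) := fun i hi => SJ_dvd hp K (hS _ (SJ_al hp K ((hmem i).1 hi)))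
  have h1 : (∑ i ∈ s, m i * htJ D l n c (θ (al D l i))) = 1 := by
    have e1 : al D l j = ∑ i ∈ s, m i • θ (al D l i) := by
      rw [← hθθ (al D l j), hm', map_sum]
      exact Finset.sum_congr rfl fun i _ => map_zsmul θ _ _
    have e2 := congrArg (htJ D l n c) e1
    rw [htJ_al hp K hj, htJ_sum _ _ fun i hi => by rw [map_zsmul]; exact (hdθ i hi).mul_left _] at e2
    rw [e2]
    exact Finset.sum_congr rfl fun i hi => (htJ_smul (m i) (hdθ i hi)).symm
  have h2 : ∀ i ∈ s, 1 ≤ htJ D l n c (θ (al D l i)) := fun i hi =>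
    one_le_htJ hp K (hS _ (SJ_al hp K ((hmem i).1 hi)))
  have h3 : ∃ i ∈ s, 0 < m i := by
    by_contra h
    push Not at h
    have h4 : (∑ i ∈ s, m i * htJ D l n c (θ (al D l i))) = 0 := Finset.sum_eq_zero fun i hi => by
      rw [le_antisymm (h i hi) (hm0 i), zero_mul]
    omega
  obtain ⟨i, his, hi⟩ := h3
  have hnn : ∀ x ∈ s, 0 ≤ m x * htJ D l n c (θ (al D l x)) := fun x hx =>
    mul_nonneg (hm0 x) (by have := h2 x hx; omega)
  have h5 := Finset.add_sum_erase s (fun i => m i * htJ D l n c (θ (al D l i))) his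
  simp only [h1] at h5
  have h6 : 0 ≤ ∑ x ∈ s.erase i, m x * htJ D l n c (θ (al D l x)) :=
    Finset.sum_nonneg fun x hx => hnn x (Finset.mem_of_mem_erase hx)
  have h7 : 1 ≤ m i * htJ D l n c (θ (al D l i)) := by have := h2 i his; nlinarith only [hi, this]
  have h8 : (∑ x ∈ s.erase i, m x * htJ D l n c (θ (al D l x))) = 0 := by omega
  have h9 := (Finset.sum_eq_zero_iff_of_nonneg fun x hx => hnn x (Finset.mem_of_mem_erase hx)).1 h8
  have h10 : m i = 1 := by
    have h11 : m i * htJ D l n c (θ (al D l i)) = 1 := by omega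
    have := h2 i his
    nlinarith only [hi, h5, h6, this]
  refine ⟨i, (hmem i).1 his, ?_⟩
  rw [hm', Finset.sum_eq_single i]
  · rw [h10, one_smul]
  · intro x hx hxi
    have h12 := h9 x (Finset.mem_erase.2 ⟨hxi, hx⟩)
    have h13 := (mul_eq_zero.1 h12).resolve_right (by have := h2 x hx; omega)
    rw [h13, zero_smul]
  · intro h
    exact absurd his h

include K in
/-- **`θ` permutes the base of the centralizer.** -/
theorem base_perm (hθθ' : ∀ x, θ' (θ x) = x) (hS : ∀ x, SJ hp n c x → SJ hp n c (θ x))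
    (hS' : ∀ x, SJ hp n c x → SJ hp n c (θ' x)) :
    ∃ π : Equiv.Perm {j : Option (Fin l) // ct c c0 j = 0}, ∀ j, θ (al D l j.1) = al D l (π j).1 := by
  have h1 : ∀ j : {j : Option (Fin l) // ct c c0 j = 0}, ∃ i : {j : Option (Fin l) // ct c c0 j = 0},
      θ (al D l j.1) = al D l i.1 := fun j => by
    obtain ⟨i, hi, e⟩ := exists_al hp K hθθ' hS' hS j.2
    exact ⟨⟨i, hi⟩, e⟩
  choose f hf using h1
  have hinj : Function.Injective f := by
    intro i j hij
    have h4 : θ (al D l i.1) = θ (al D l j.1) := by rw [hf, hf, hij]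
    have h5 := congrArg θ' h4
    rw [hθθ', hθθ'] at h5
    -- `al` is injective on `J`
    have h6 := (SJ_pos hp K (SJ_al hp K i.2)).2
    have hlev : ∀ j : {j : Option (Fin l) // ct c c0 j = 0}, (al D l j.1, lev n c (al D l j.1)) = ea D l j.1 := by
      intro j
      have hn : (0 : ℤ) < n := by exact_mod_cast K.pos
      have h1 := (SJ_pos hp K (SJ_al hp K j.2)).2
      have h2 : bb c (ea D l j.1).1 + n * (ea D l j.1).2 = 0 := by
        rw [val_eq K.sum]
        refine Finset.sum_eq_zero fun i _ => ?_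
        rw [crd_ea]
        by_cases h : j.1 = i
        · subst h
          rw [j.2, Nat.cast_zero, mul_zero]
        · rw [if_neg h, zero_mul]
      rw [ea_fst] at h2
      have h3 : lev n c (al D l j.1) = (ea D l j.1).2 := by nlinarith only [hn, h1, h2]
      rw [h3]
      exact Prod.ext (ea_fst j.1).symm rfl
    have h7 : ea D l i.1 = ea D l j.1 := by rw [← hlev, ← hlev, h5]
    exact Subtype.ext (ea_inj h7)
  exact ⟨Equiv.ofBijective f (Finite.injective_iff_bijective.1 hinj), hf⟩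

end theta

end Cfsg.Agent.H931.KC
end

-- part: H384/KC/BZero
section
/-!
# Kac coordinates (S3509): the stabiliser of a point of the alcove (helper384)

`K : Kac D l n c c0`, `b x = ∑ i, x i * c i`.

* `JS c c0 β` : `β` is a `J`-simple root: `sr i` with `c i = 0`, or `- hr` if `c0 = 0`;
* `AP n c a` : `a` is a root with `b a = 0` and `0 ≤ a`, or `b a = - n`;
* `WJ` : the subgroup generated by the reflections in the `J`-simple roots;
* `exists_std` : for `v` with `n ∣ b (rep v x) - b x` there is `u ∈ WJ` such that `rep (v * u)` maps `AP` into `AP`.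
-/

set_option autoImplicit false
set_option linter.unusedSectionVars false

namespace Cfsg.Agent.H384.KC

open CoxeterSystem Cfsg Cfsg.Lie Cfsg.Lie.ChevalleyDatum
open Cfsg.Agent.ChevalleyStructure Cfsg.Agent.ChevalleyStructure.Elts Cfsg.Agent.ChevalleyStructure.CoxeterGeom
  Cfsg.Agent.ChevalleyStructure.CoxeterGeomTypes Cfsg.Agent.ChevalleyStructure.NPerm
open Cfsg.Agent.Tits.Roots Cfsg.Agent.Tits.Core Cfsg.Agent.Nodes Cfsg.Agent.Nodes.Reps Cfsg.Agent.Nodes.BNOf
  Cfsg.Agent.Nodes.RGDChev Cfsg.Agent.Nodes.Bruhat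
open Cfsg.Agent.H129.TorusChar Cfsg.Agent.H129.WData Cfsg.Agent.H931.KC

variable {D : ChevalleyDatum} {l : ℕ} {M : CoxeterMatrix (Fin l)} (hp : IsType D l M)

/-- `J`-simple roots -/
def JS (D : ChevalleyDatum) (l : ℕ) (c : Fin l → ℕ) (c0 : ℕ) (β : Fin l → ℤ) : Prop :=
  (∃ i, β = sr i ∧ c i = 0) ∨ (β = -hr D l ∧ c0 = 0)

/-- the functional of the Kac coordinates -/
def bb {l : ℕ} (c : Fin l → ℕ) : (Fin l → ℤ) →+ ℤ := psi fun i => (c i : ℤ)

theorem bb_apply {l : ℕ} (c : Fin l → ℕ) (x : Fin l → ℤ) : bb c x = ∑ i, x i * (c i : ℤ) := rfl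

/-- affinely positive roots of `Φ_t` -/
def AP (hp : IsType D l M) (n : ℕ) (c : Fin l → ℕ) (a : Fin l → ℤ) : Prop :=
  IsRoot M.toCoxeterSystem hp.isCartan a ∧ ((bb c a = 0 ∧ 0 ≤ a) ∨ bb c a = -(n : ℤ))

/-- `r` is the reflection in the root `β` -/
def IsRefl (hp : IsType D l M) (r : M.Group) (β : Fin l → ℤ) : Prop :=
  ∃ (w : M.Group) (i : Fin l), β = rep M.toCoxeterSystem hp.isCartan w (sr i) ∧ r = w * M.toCoxeterSystem.simple i * w⁻¹

/-- the group generated by the reflections in the `J`-simple roots -/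
def WJ (hp : IsType D l M) (c : Fin l → ℕ) (c0 : ℕ) : Subgroup M.Group :=
  Subgroup.closure {r | ∃ β, JS D l c c0 β ∧ IsRefl hp r β}

/-- the height function separating the affinely positive roots -/
def Lam (D : ChevalleyDatum) (l : ℕ) (n : ℕ) (c : Fin l → ℕ) : (Fin l → ℤ) →+ ℤ :=
  (n : ℤ) • psi (fun _ : Fin l => (1 : ℤ)) - (1 + psi (fun _ : Fin l => (1 : ℤ)) (hr D l)) • bb c

theorem Lam_apply {n : ℕ} {c : Fin l → ℕ} (x : Fin l → ℤ) :
    Lam D l n c x = n * psi (fun _ : Fin l => (1 : ℤ)) x - (1 + psi (fun _ : Fin l => (1 : ℤ)) (hr D l)) * bb c x := rfl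

/-- the coordinate form of a reflection -/
theorem refl_form {r : M.Group} {β : Fin l → ℤ} (h : IsRefl hp r β) :
    ∃ P : (Fin l → ℤ) →+ ℤ, P β = 2 ∧ ∀ x, rep M.toCoxeterSystem hp.isCartan r x = x - P x • β := by
  obtain ⟨w, i, rfl, rfl⟩ := h
  have e0 : pairing (cartanOf D l) i (rep M.toCoxeterSystem hp.isCartan w⁻¹ 0) = 0 := by
    rw [map_zero]
    simp only [pairing, _root_.Pi.zero_apply, _root_.MulZeroClass.mul_zero, _root_.Finset.sum_const_zero]
  have e1 : ∀ x y, pairing (cartanOf D l) i (rep M.toCoxeterSystem hp.isCartan w⁻¹ (x + y)) =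
      pairing (cartanOf D l) i (rep M.toCoxeterSystem hp.isCartan w⁻¹ x) +
        pairing (cartanOf D l) i (rep M.toCoxeterSystem hp.isCartan w⁻¹ y) := by
    intro x y
    rw [map_add, pairing_add]
  refine ⟨⟨⟨fun x => pairing (cartanOf D l) i (rep M.toCoxeterSystem hp.isCartan w⁻¹ x), e0⟩, e1⟩, ?_, ?_⟩
  · show pairing (cartanOf D l) i (rep M.toCoxeterSystem hp.isCartan w⁻¹ (rep M.toCoxeterSystem hp.isCartan w (sr i))) = 2
    rw [rep_inv_apply]
    have h1 := rep_simple_sr M.toCoxeterSystem hp.isCartan i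
    rw [rep_simple_eq] at h1
    have h2 := congrFun h1 i
    rw [Pi.sub_apply, Pi.smul_apply, Pi.neg_apply, sr_self, smul_eq_mul, mul_one] at h2
    omega
  · intro x
    rw [rep_mul_apply, rep_mul_apply, rep_simple_eq, map_sub, map_zsmul, rep_apply_inv]
    rfl

theorem exists_isRefl {β : Fin l → ℤ} (h : IsRoot M.toCoxeterSystem hp.isCartan β) : ∃ r, IsRefl hp r β := by
  obtain ⟨w, i, rfl⟩ := h
  exact ⟨w * M.toCoxeterSystem.simple i * w⁻¹, w, i, rfl, rfl⟩

theorem isRoot_JS {c : Fin l → ℕ} {c0 : ℕ} {β : Fin l → ℤ} (h : JS D l c c0 β) :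
    IsRoot M.toCoxeterSystem hp.isCartan β := by
  rcases h with ⟨i, rfl, -⟩ | ⟨rfl, -⟩
  · exact isRoot_sr _ _ i
  · obtain ⟨Bm, hv, v, C, H⟩ := exists_ok hp
    exact (isRoot_hr hp H).neg

variable {n : ℕ} {c : Fin l → ℕ} {c0 : ℕ} (K : Kac D l n c c0)

theorem ht_pos {a : Fin l → ℤ} (ha : IsRoot M.toCoxeterSystem hp.isCartan a) (h0 : 0 ≤ a) :
    1 ≤ psi (fun _ : Fin l => (1 : ℤ)) a := by
  have h1 : 0 ≤ psi (fun _ : Fin l => (1 : ℤ)) a := by
    rw [psi_apply]
    exact Finset.sum_nonneg fun i _ => by rw [mul_one]; exact h0 i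
  rcases h1.lt_or_eq with h | h
  · omega
  · exfalso
    rw [psi_apply] at h
    have h2 := (Finset.sum_eq_zero_iff_of_nonneg fun i _ => (by rw [mul_one]; exact h0 i : 0 ≤ a i * (1 : ℤ))).1 h.symm
    apply ha.ne_zero
    funext i
    have h3 := h2 i (Finset.mem_univ i)
    rwa [mul_one] at h3

theorem ht_le {a : Fin l → ℤ} (ha : IsRoot M.toCoxeterSystem hp.isCartan a) :
    psi (fun _ : Fin l => (1 : ℤ)) a ≤ psi (fun _ : Fin l => (1 : ℤ)) (hr D l) := by
  obtain ⟨Bm, hv, v, C, H⟩ := exists_ok hp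
  rw [psi_apply, psi_apply]
  exact Finset.sum_le_sum fun i _ => by rw [mul_one, mul_one]; exact le_hr hp H ha i

include K in
theorem bb_hr : bb c (hr D l) = n - c0 := by
  have h := K.sum
  rw [bb_apply]
  linarith

theorem bb_nonneg {a : Fin l → ℤ} (h0 : 0 ≤ a) : 0 ≤ bb c a := by
  rw [bb_apply]
  exact Finset.sum_nonneg fun i _ => mul_nonneg (h0 i) (by positivity)

include K in
theorem bb_le {a : Fin l → ℤ} (ha : IsRoot M.toCoxeterSystem hp.isCartan a) : bb c a ≤ n := by
  obtain ⟨Bm, hv, v, C, H⟩ := exists_ok hp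
  have h1 : bb c a ≤ bb c (hr D l) := by
    rw [bb_apply, bb_apply]
    exact Finset.sum_le_sum fun i _ => mul_le_mul_of_nonneg_right (le_hr hp H ha i) (by positivity)
  rw [bb_hr K] at h1
  have : (0 : ℤ) ≤ c0 := by positivity
  omega

include K in
/-- the three values of `b` on `Φ_t` -/
theorem bb_cases {a : Fin l → ℤ} (ha : IsRoot M.toCoxeterSystem hp.isCartan a) (hd : (n : ℤ) ∣ bb c a) :
    bb c a = 0 ∨ bb c a = n ∨ bb c a = -n := by
  have h1 := bb_le hp K ha
  have h2 := bb_le hp K ha.neg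
  rw [map_neg] at h2
  have hn : (0 : ℤ) < n := by exact_mod_cast K.pos
  obtain ⟨m, hm⟩ := hd
  have h3 : m ≤ 1 := by
    by_contra h
    have : (n : ℤ) * 2 ≤ n * m := mul_le_mul_of_nonneg_left (by omega) hn.le
    omega
  have h4 : -1 ≤ m := by
    by_contra h
    have : (n : ℤ) * m ≤ n * (-2) := mul_le_mul_of_nonneg_left (by omega) hn.le
    omega
  have h5 : m = 0 ∨ m = 1 ∨ m = -1 := by omega
  rcases h5 with rfl | rfl | rfl
  · left; rw [hm, mul_zero]
  · right; left; rw [hm, mul_one]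
  · right; right; rw [hm]; ring

include K in
theorem lam_pos_iff {a : Fin l → ℤ} (ha : IsRoot M.toCoxeterSystem hp.isCartan a) (hd : (n : ℤ) ∣ bb c a) :
    (0 < Lam D l n c a ↔ AP hp n c a) ∧ Lam D l n c a ≠ 0 := by
  have hn : (0 : ℤ) < n := by exact_mod_cast K.pos
  have h1 := ht_le hp ha
  have h2 := ht_le hp ha.neg
  rw [map_neg] at h2
  set T := psi (fun _ : Fin l => (1 : ℤ)) a with hT
  set hh := psi (fun _ : Fin l => (1 : ℤ)) (hr D l) with hhh
  rcases bb_cases hp K ha hd with h | h | h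
  · have e : Lam D l n c a = n * T := by rw [Lam_apply, h, mul_zero, sub_zero]
    rcases ha.pos_or_neg with h0 | h0
    · have h3 := ht_pos hp ha h0
      have h4 : 0 < (n : ℤ) * T := mul_pos hn (by omega)
      rw [e]
      exact ⟨⟨fun _ => ⟨ha, Or.inl ⟨h, h0⟩⟩, fun _ => h4⟩, h4.ne'⟩
    · have h3 := ht_pos hp ha.neg (neg_nonneg.2 h0)
      rw [map_neg] at h3
      have h4 : (n : ℤ) * T < 0 := mul_neg_of_pos_of_neg hn (by omega)
      rw [e]
      refine ⟨⟨fun h5 => absurd h5 (by omega), ?_⟩, h4.ne⟩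
      rintro ⟨-, ⟨-, h5⟩ | h5⟩
      · exact absurd h0 (ha.not_pos_neg h5)
      · omega
  · have e : Lam D l n c a = n * (T - (1 + hh)) := by rw [Lam_apply, h]; ring
    have h4 : (n : ℤ) * (T - (1 + hh)) < 0 := mul_neg_of_pos_of_neg hn (by omega)
    rw [e]
    refine ⟨⟨fun h5 => absurd h5 (by omega), ?_⟩, h4.ne⟩
    rintro ⟨-, ⟨h5, -⟩ | h5⟩ <;> omega
  · have e : Lam D l n c a = n * (T + (1 + hh)) := by rw [Lam_apply, h]; ring
    have h4 : 0 < (n : ℤ) * (T + (1 + hh)) := mul_pos hn (by omega)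
    rw [e]
    exact ⟨⟨fun _ => ⟨ha, Or.inr h⟩, fun _ => h4⟩, h4.ne'⟩

include K in
/-- the affinely positive roots are sums of `J`-simple roots -/
theorem pos_of_JS {a : Fin l → ℤ} (ha : AP hp n c a) (f : (Fin l → ℤ) →+ ℤ) (hf : ∀ β, JS D l c c0 β → 0 < f β) :
    0 < f a := by
  have hn : (0 : ℤ) < n := by exact_mod_cast K.pos
  obtain ⟨hr', h⟩ := ha
  -- non-negative combinations
  have key : ∀ k : Fin l → ℤ, (∀ i, 0 ≤ k i) → bb c k = 0 → 0 ≤ f k ∧ (k ≠ 0 → 0 < f k) := by
    intro k hk hb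
    have hc : ∀ i, k i ≠ 0 → c i = 0 := by
      intro i hi
      rw [bb_apply] at hb
      have h1 := (Finset.sum_eq_zero_iff_of_nonneg fun i _ =>
        (mul_nonneg (hk i) (by positivity) : 0 ≤ k i * (c i : ℤ))).1 hb i (Finset.mem_univ i)
      have h2 := (mul_eq_zero.1 h1).resolve_left hi
      exact_mod_cast h2
    have h3 : ∀ i, 0 ≤ k i * f (sr i) := by
      intro i
      by_cases hi : k i = 0
      · rw [hi, zero_mul]
      · exact mul_nonneg (hk i) (hf _ (Or.inl ⟨i, rfl, hc i hi⟩)).le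
    rw [eq_psi f k]
    refine ⟨Finset.sum_nonneg fun i _ => h3 i, fun hne => ?_⟩
    obtain ⟨i, hi⟩ : ∃ i, k i ≠ 0 := by
      by_contra hcon
      push Not at hcon
      exact hne (funext hcon)
    exact Finset.sum_pos' (fun i _ => h3 i) ⟨i, Finset.mem_univ i, mul_pos (lt_of_le_of_ne (hk i) (Ne.symm hi))
      (hf _ (Or.inl ⟨i, rfl, hc i hi⟩))⟩
  rcases h with ⟨h, h0⟩ | h
  · exact (key a h0 h).2 hr'.ne_zero
  · obtain ⟨Bm, hv, v, C, H⟩ := exists_ok hp
    have h1 : ∀ i, 0 ≤ (a + hr D l) i := by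
      intro i
      have := le_hr hp H hr'.neg i
      rw [Pi.neg_apply] at this
      rw [Pi.add_apply]
      omega
    have h2 : bb c (a + hr D l) = -(c0 : ℤ) := by
      rw [map_add, h, bb_hr K]
      ring
    have h3 : 0 ≤ bb c (a + hr D l) := bb_nonneg h1
    have h4 : c0 = 0 := by
      have : (0 : ℤ) ≤ c0 := by positivity
      omega
    have h5 := (key _ h1 (by rw [h2, h4]; simp)).1
    have h6 := hf _ (Or.inr ⟨rfl, h4⟩ : JS D l c c0 (-hr D l))
    rw [map_neg] at h6
    rw [map_add] at h5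
    omega

include K in
theorem AP_JS {β : Fin l → ℤ} (h : JS D l c c0 β) : AP hp n c β := by
  refine ⟨isRoot_JS hp h, ?_⟩
  rcases h with ⟨i, rfl, hi⟩ | ⟨rfl, h0⟩
  · left
    refine ⟨?_, sr_nonneg i⟩
    have h1 := psi_sr (fun i => (c i : ℤ)) i
    show psi (fun i => (c i : ℤ)) (sr i) = 0
    rw [h1, hi, Nat.cast_zero]
  · right
    rw [map_neg, bb_hr K, h0]
    simp

theorem AP.dvd {a : Fin l → ℤ} (h : AP hp n c a) : (n : ℤ) ∣ bb c a := by
  rcases h.2 with ⟨h, -⟩ | h
  · rw [h]; exact dvd_zero _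
  · rw [h]; exact (dvd_refl _).neg_right

/-- the elements preserving `b` modulo `n` -/
def Stab (hp : IsType D l M) (n : ℕ) (c : Fin l → ℕ) (w : M.Group) : Prop :=
  ∀ x, (n : ℤ) ∣ bb c (rep M.toCoxeterSystem hp.isCartan w x) - bb c x

theorem Stab.one : Stab hp n c 1 := by
  intro x
  rw [map_one, Module.End.one_apply, sub_self]
  exact dvd_zero _

theorem Stab.mul {v w : M.Group} (h1 : Stab hp n c v) (h2 : Stab hp n c w) : Stab hp n c (v * w) := by
  intro x
  rw [rep_mul_apply]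
  have := dvd_add (h1 (rep M.toCoxeterSystem hp.isCartan w x)) (h2 x)
  rwa [sub_add_sub_cancel] at this

theorem Stab.inv {v : M.Group} (h1 : Stab hp n c v) : Stab hp n c v⁻¹ := by
  intro x
  have := h1 (rep M.toCoxeterSystem hp.isCartan v⁻¹ x)
  rw [rep_apply_inv] at this
  rw [← neg_sub]
  exact this.neg_right

theorem Stab.dvd_iff {v : M.Group} (h1 : Stab hp n c v) (x : Fin l → ℤ) :
    (n : ℤ) ∣ bb c (rep M.toCoxeterSystem hp.isCartan v x) ↔ (n : ℤ) ∣ bb c x := by
  constructor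
  · intro h
    have := dvd_sub h (h1 x)
    rwa [sub_sub_cancel] at this
  · intro h
    have := dvd_add (h1 x) h
    rwa [sub_add_cancel] at this

theorem stab_refl {r : M.Group} {β : Fin l → ℤ} (h : IsRefl hp r β) (hβ : (n : ℤ) ∣ bb c β) : Stab hp n c r := by
  obtain ⟨P, -, hP⟩ := refl_form hp h
  intro x
  rw [hP, map_sub, map_zsmul, smul_eq_mul, sub_sub_cancel_left]
  exact (hβ.mul_left _).neg_right

include K in
theorem stab_WJ {u : M.Group} (hu : u ∈ WJ hp c c0) : Stab hp n c u := by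
  induction hu using Subgroup.closure_induction with
  | mem r hr' =>
    obtain ⟨β, h1, h2⟩ := hr'
    exact stab_refl hp h2 (AP_JS hp K h1).dvd
  | one => exact Stab.one hp
  | mul a b _ _ ha hb => exact ha.mul hp hb
  | inv a _ ha => exact ha.inv hp

/-- the roots of `Φ_t` -/
noncomputable def SR (D : ChevalleyDatum) (l : ℕ) (n : ℕ) (c : Fin l → ℕ) : Finset (Fin D.nroots) := by
  classical exact Finset.univ.filter fun r => (n : ℤ) ∣ bb c (vec D l r)

theorem mem_SR {r : Fin D.nroots} : r ∈ SR D l n c ↔ (n : ℤ) ∣ bb c (vec D l r) := by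
  unfold SR
  rw [Finset.mem_filter]
  simp only [_root_.Finset.mem_univ, _root_.true_and]

theorem sum_SR {w : M.Group} (hw : Stab hp n c w) (F : (Fin l → ℤ) → ℤ) :
    (∑ r ∈ SR D l n c, F (rep M.toCoxeterSystem hp.isCartan w (vec D l r))) = ∑ r ∈ SR D l n c, F (vec D l r) := by
  obtain ⟨π, hπ⟩ := Cfsg.Agent.H994.KE.exists_perm hp w
  refine Finset.sum_equiv π (fun r => ?_) (fun r _ => by rw [hπ])
  rw [mem_SR, mem_SR, hπ, hw.dvd_iff hp]

end Cfsg.Agent.H384.KC
end

-- part: H384/KC/BOne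
section
/-!
# Kac coordinates (S3509): moving the affinely positive roots into a half space (helper384)
-/

set_option autoImplicit false
set_option linter.unusedSectionVars false

namespace Cfsg.Agent.H384.KC

open CoxeterSystem Cfsg Cfsg.Lie Cfsg.Lie.ChevalleyDatum
open Cfsg.Agent.ChevalleyStructure Cfsg.Agent.ChevalleyStructure.Elts Cfsg.Agent.ChevalleyStructure.CoxeterGeom
  Cfsg.Agent.ChevalleyStructure.CoxeterGeomTypes Cfsg.Agent.ChevalleyStructure.NPerm
open Cfsg.Agent.Tits.Roots Cfsg.Agent.Tits.Core Cfsg.Agent.Nodes Cfsg.Agent.Nodes.Reps Cfsg.Agent.Nodes.BNOf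
  Cfsg.Agent.Nodes.RGDChev Cfsg.Agent.Nodes.Bruhat
open Cfsg.Agent.H129.TorusChar Cfsg.Agent.H129.WData Cfsg.Agent.H931.KC

variable {D : ChevalleyDatum} {l : ℕ} {M : CoxeterMatrix (Fin l)} (hp : IsType D l M)
  {n : ℕ} {c : Fin l → ℕ} {c0 : ℕ} (K : Kac D l n c c0)

include K in
/-- **Some `u ∈ WJ` moves the affinely positive roots into the half space `0 < f`.** -/
theorem exists_std' {f : (Fin l → ℤ) →+ ℤ}
    (hf : ∀ a, IsRoot M.toCoxeterSystem hp.isCartan a → (n : ℤ) ∣ bb c a → f a ≠ 0) :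
    ∃ u ∈ WJ hp c c0, ∀ a, AP hp n c a → 0 < f (rep M.toCoxeterSystem hp.isCartan u a) := by
  have hfin : Finite M.Group := finite_W hp M.toCoxeterSystem
  obtain ⟨⟨u, hu⟩, hmax⟩ := Finite.exists_max fun u : ↥(WJ hp c c0) => ∑ r ∈ SR D l n c,
    Lam D l n c (vec D l r) * f (rep M.toCoxeterSystem hp.isCartan u (vec D l r))
  have hst : Stab hp n c u := stab_WJ hp K hu
  refine ⟨u, hu, fun a ha => ?_⟩
  refine pos_of_JS hp K ha (f.comp (rep M.toCoxeterSystem hp.isCartan u).toAddMonoidHom) fun β hβ => ?_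
  show 0 < f (rep M.toCoxeterSystem hp.isCartan u β)
  have hAP := AP_JS hp K hβ
  obtain ⟨r, hrβ⟩ := exists_isRefl hp hAP.1
  obtain ⟨P, hP2, hP⟩ := refl_form hp hrβ
  have hstr := stab_refl hp hrβ hAP.dvd
  have hrW : r ∈ WJ hp c c0 := Subgroup.subset_closure ⟨β, hβ, hrβ⟩
  have h1 := hmax ⟨u * r, (WJ hp c c0).mul_mem hu hrW⟩
  set X := f (rep M.toCoxeterSystem hp.isCartan u β) with hX
  set T := ∑ s ∈ SR D l n c, Lam D l n c (vec D l s) * P (vec D l s) with hT
  have e1 : (∑ s ∈ SR D l n c, Lam D l n c (vec D l s) *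
      f (rep M.toCoxeterSystem hp.isCartan (u * r) (vec D l s))) =
      (∑ s ∈ SR D l n c, Lam D l n c (vec D l s) * f (rep M.toCoxeterSystem hp.isCartan u (vec D l s))) -
        X * T := by
    rw [hT, Finset.mul_sum, ← Finset.sum_sub_distrib]
    refine Finset.sum_congr rfl fun s _ => ?_
    rw [rep_mul_apply, hP, map_sub, map_zsmul, map_sub, map_zsmul, smul_eq_mul, ← hX]
    ring
  have e2 : 2 * T = Lam D l n c β * ∑ s ∈ SR D l n c, P (vec D l s) ^ 2 := by
    have h2 := sum_SR hp hstr fun x => Lam D l n c x * P x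
    have h3 : (∑ s ∈ SR D l n c, Lam D l n c (rep M.toCoxeterSystem hp.isCartan r (vec D l s)) *
        P (rep M.toCoxeterSystem hp.isCartan r (vec D l s))) =
        Lam D l n c β * (∑ s ∈ SR D l n c, P (vec D l s) ^ 2) - T := by
      rw [hT, Finset.mul_sum, ← Finset.sum_sub_distrib]
      refine Finset.sum_congr rfl fun s _ => ?_
      rw [hP, map_sub, map_zsmul, map_sub, map_zsmul, hP2, smul_eq_mul, smul_eq_mul]
      ring
    have h4 : (∑ s ∈ SR D l n c, Lam D l n c (rep M.toCoxeterSystem hp.isCartan r (vec D l s)) *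
        P (rep M.toCoxeterSystem hp.isCartan r (vec D l s))) = T := h2
    linarith
  have h5 : 0 < Lam D l n c β := (lam_pos_iff hp K hAP.1 hAP.dvd).1.2 hAP
  have h6 : 0 < ∑ s ∈ SR D l n c, P (vec D l s) ^ 2 := by
    obtain ⟨s, hs, e⟩ := (isRoot_iff hp M.toCoxeterSystem β).1 hAP.1
    have hd := hAP.dvd
    rw [← e] at hd
    refine Finset.sum_pos' (fun i _ => sq_nonneg _) ⟨⟨s, hs⟩, mem_SR.2 hd, ?_⟩
    show 0 < P (vec D l s) ^ 2
    rw [e, hP2]
    norm_num
  have h7 : 0 < T := by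
    have := mul_pos h5 h6
    omega
  have h8 : 0 ≤ X := by
    rw [e1] at h1
    have h9 : 0 ≤ X * T := by linarith
    by_contra hcon
    push Not at hcon
    have := mul_neg_of_neg_of_pos hcon h7
    omega
  have h9 := hf _ (hAP.1.act u) ((hst.dvd_iff hp β).2 hAP.dvd)
  exact lt_of_le_of_ne h8 (Ne.symm h9)

end Cfsg.Agent.H384.KC
end

-- part: H931/KC/PPCard
section
/-!
# The stabiliser factor (S3509, helper931)

* `exists_kac_pos` : the element `w` of `exists_kac` can be chosen with `0 ≤ rep w a` for `a` in the positive system `SJ`;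
* `card_PP_le` : for `t` in the torus with `t ^ n = 1` the group `PP` of the elements of the Weyl group fixing `t` and the positive
  system of `Sx t` has at most as many elements as there are extended nodes of mark 1; `card_PP_le_one` (`G₂`, `F₄`, `E₈`),
  `card_PP_le_two` (`E₇`), `card_PP_le_three` (`E₆`).
-/

set_option autoImplicit false
set_option linter.unusedSectionVars false
set_option maxRecDepth 100000

namespace Cfsg.Agent.H931.KC

open CoxeterSystem Cfsg Cfsg.Lie Cfsg.Lie.ChevalleyDatum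
open Cfsg.Agent.ChevalleyStructure Cfsg.Agent.ChevalleyStructure.Elts Cfsg.Agent.ChevalleyStructure.CoxeterGeom
  Cfsg.Agent.ChevalleyStructure.CoxeterGeomTypes Cfsg.Agent.ChevalleyStructure.NPerm
open Cfsg.Agent.Tits.Roots Cfsg.Agent.Tits.Core Cfsg.Agent.Nodes Cfsg.Agent.Nodes.Reps Cfsg.Agent.Nodes.BNOf
  Cfsg.Agent.Nodes.RGDChev Cfsg.Agent.Nodes.Bruhat
open Cfsg.Agent.KFacts.RgdField Cfsg.Agent.KFacts.RgdChevCoord Cfsg.Agent.BpExc.TorCent Cfsg.Agent.BpExc.TorChev
open Cfsg.Agent.H129.TorusChar Cfsg.Agent.H129.WData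

universe u

variable {D : ChevalleyDatum} {l : ℕ} {M : CoxeterMatrix (Fin l)} (hp : IsType D l M)

include hp in
/-- the extended simple roots are different -/
theorem al_inj {i j : Option (Fin l)} (h : al D l i = al D l j) : i = j := by
  obtain ⟨Bm, hv, v, C, H⟩ := exists_ok hp
  have key : ∀ i : Fin l, al D l none ≠ al D l (some i) := by
    intro i h
    have h1 := congrFun h i
    have h2 : -hr D l i = (sr i : Fin l → ℤ) i := h1
    have h3 := le_hr hp H (isRoot_sr M.toCoxeterSystem hp.isCartan i) i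
    rw [sr_self] at h2 h3
    omega
  cases i with
  | none =>
    cases j with
    | none => rfl
    | some j => exact absurd h (key j)
  | some i =>
    cases j with
    | none => exact absurd h.symm (key i)
    | some j =>
      by_contra hij
      have hij' : i ≠ j := fun h => hij (congrArg some h)
      have h1 := congrFun h i
      have h2 : (sr i : Fin l → ℤ) i = (sr j : Fin l → ℤ) i := h1
      rw [sr_self, sr_ne hij'] at h2
      exact one_ne_zero h2

/-- an element permuting the extended simple roots and fixing `hr` is trivial -/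
theorem eq_one_of_none {v : M.Group} {π : Equiv.Perm (Option (Fin l))}
    (h : ∀ i, rep M.toCoxeterSystem hp.isCartan v (al D l i) = al D l (π i))
    (h0 : rep M.toCoxeterSystem hp.isCartan v (al D l none) = al D l none) : v = 1 := by
  have h1 : π none = none := by
    refine al_inj hp ?_
    rw [← h, h0]
  refine eq_one_of_nonneg M.toCoxeterSystem hp.isCartan v fun i => ?_
  have h2 : π (some i) ≠ none := fun h3 => by
    have := π.injective (h3.trans h1.symm)
    exact absurd this (by simp)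
  obtain ⟨j, hj⟩ := Option.ne_none_iff_exists'.1 h2
  have h3 := h (some i)
  rw [hj] at h3
  have h4 : rep M.toCoxeterSystem hp.isCartan v (sr i) = sr j := h3
  have h5 : (0 : Fin l → ℤ) ≤ sr j := sr_nonneg j
  rw [← h4] at h5
  exact h5

/-- the roots with nonzero height -/
theorem psi_one_ne {a : Fin l → ℤ} (ha : IsRoot M.toCoxeterSystem hp.isCartan a) :
    psi (fun _ : Fin l => (1 : ℤ)) a ≠ 0 := by
  rcases ha.pos_or_neg with h0 | h0
  · have := H384.KC.ht_pos hp ha h0
    omega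
  · have := H384.KC.ht_pos hp ha.neg (neg_nonneg.2 h0)
    rw [map_neg] at this
    omega

theorem nonneg_of_psi_one {a : Fin l → ℤ} (ha : IsRoot M.toCoxeterSystem hp.isCartan a)
    (h : 0 < psi (fun _ : Fin l => (1 : ℤ)) a) : 0 ≤ a := by
  rcases ha.pos_or_neg with h0 | h0
  · exact h0
  · have := H384.KC.ht_pos hp ha.neg (neg_nonneg.2 h0)
    rw [map_neg] at this
    omega

variable {k : Type u} [Field k]

/-- **Kac coordinates**, with the positive system. -/
theorem exists_kac_pos {n : ℕ} (hn : 0 < n) {ζ : k} (hζ : IsPrimitiveRoot ζ n) {t : ↥(D.group k)} (ht : t ∈ TT D k)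
    (htn : t ^ n = 1) : ∃ (w : M.Group) (c : Fin l → ℕ) (c0 : ℕ), Kac D l n c c0 ∧
      (∀ x, cX hp t (rep M.toCoxeterSystem hp.isCartan w x) = ζ ^ bb c x) ∧
      ∀ a, SJ hp n c a → 0 ≤ rep M.toCoxeterSystem hp.isCartan w a := by
  obtain ⟨w, c, c0, K, h1, -⟩ := exists_kac' hp hn hζ ht htn
  have hζ0 : ζ ≠ 0 := hζ.ne_zero hn.ne'
  obtain ⟨u, hu, hpos⟩ := H384.KC.exists_std' hp K
    (f := (psi (fun _ : Fin l => (1 : ℤ))).comp (rep M.toCoxeterSystem hp.isCartan w).toAddMonoidHom)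
    (fun a ha _ => psi_one_ne hp (ha.act w))
  refine ⟨w * u, c, c0, K, fun x => ?_, fun a ha => ?_⟩
  · rw [rep_mul_apply]
    have h2 : cX hp t (rep M.toCoxeterSystem hp.isCartan w (rep M.toCoxeterSystem hp.isCartan u x)) =
      ζ ^ bb c (rep M.toCoxeterSystem hp.isCartan u x) := h1 _
    obtain ⟨m, hm⟩ : (n : ℤ) ∣ bb c (rep M.toCoxeterSystem hp.isCartan u x) - bb c x := H384.KC.stab_WJ hp K hu x
    have e : bb c (rep M.toCoxeterSystem hp.isCartan u x) = n * m + bb c x := by linear_combination hm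
    rw [h2, e, zpow_add₀ hζ0, zpow_mul, zpow_natCast, hζ.pow_eq_one, one_zpow, one_mul]
  · have h2 := hpos a ha
    rw [rep_mul_apply]
    exact nonneg_of_psi_one hp ((ha.1.act u).act w) h2

/-- the characters of `t` for an element of `PP` -/
theorem cX_PP [Finite M.Group] {t : ↥(D.group k)} (ht : t ∈ TT D k) {w : M.Group}
    (hw : w ∈ PP M.toCoxeterSystem hp.isCartan (ch hp) t) (x : Fin l → ℤ) :
    cX hp t (rep M.toCoxeterSystem hp.isCartan w x) = cX hp t x := by
  refine ((isMC_cX hp ht).comp (rep M.toCoxeterSystem hp.isCartan w).toAddMonoidHom).ext (isMC_cX hp ht) (fun i => ?_) x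
  have h1 := (mem_PP.1 hw).1 (sr i) (isRoot_sr _ _ i)
  show cX hp t (rep M.toCoxeterSystem hp.isCartan w (sr i)) = _
  rw [cX_root hp M.toCoxeterSystem ht ((isRoot_sr M.toCoxeterSystem hp.isCartan i).act w),
    cX_root hp M.toCoxeterSystem ht (isRoot_sr M.toCoxeterSystem hp.isCartan i), h1]

/-- **The stabiliser factor.** -/
theorem card_PP_le' [Finite M.Group] {n : ℕ} (hn : 0 < n) {ζ : k} (hζ : IsPrimitiveRoot ζ n) {t : ↥(D.group k)}
    (ht : t ∈ TT D k) (htn : t ^ n = 1) :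
    Nat.card ↥(PP M.toCoxeterSystem hp.isCartan (ch hp) t) ≤ Nat.card {j : Option (Fin l) // mk D l j = 1} := by
  obtain ⟨w, c, c0, K, h1, h2⟩ := exists_kac_pos hp hn hζ ht htn
  have hζ0 : ζ ≠ 0 := hζ.ne_zero hn.ne'
  -- the conjugate
  have hstab : ∀ y : ↥(PP M.toCoxeterSystem hp.isCartan (ch hp) t), ∀ x,
      (n : ℤ) ∣ bb c (rep M.toCoxeterSystem hp.isCartan (w⁻¹ * y * w) x) - bb c x := by
    intro y x
    rw [← hζ.zpow_eq_one_iff_dvd, zpow_sub₀ hζ0, ← h1, ← h1, rep_mul_apply, rep_mul_apply, rep_apply_inv,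
      cX_PP hp ht y.2, div_self ((isMC_cX hp ht).ne_zero _)]
  have hSJ : ∀ y : ↥(PP M.toCoxeterSystem hp.isCartan (ch hp) t), ∀ a, SJ hp n c a →
      SJ hp n c (rep M.toCoxeterSystem hp.isCartan (w⁻¹ * y * w) a) := by
    intro y a ha
    have hr1 : IsRoot M.toCoxeterSystem hp.isCartan (rep M.toCoxeterSystem hp.isCartan (w⁻¹ * y * w) a) := ha.1.act _
    have hd : (n : ℤ) ∣ bb c (rep M.toCoxeterSystem hp.isCartan (w⁻¹ * y * w) a) := by
      have h3 := dvd_add (hstab y a) (SJ_dvd hp K ha)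
      rwa [sub_add_cancel] at h3
    have hwa : rep M.toCoxeterSystem hp.isCartan w a ∈ Sx M.toCoxeterSystem hp.isCartan (ch hp) t := by
      refine ⟨ha.1.act w, ?_⟩
      rw [← cX_root hp M.toCoxeterSystem ht (ha.1.act w), h1, hζ.zpow_eq_one_iff_dvd]
      exact SJ_dvd hp K ha
    have hpos := (mem_PP.1 y.2).2 _ hwa (h2 a ha)
    have e : rep M.toCoxeterSystem hp.isCartan w (rep M.toCoxeterSystem hp.isCartan (w⁻¹ * y * w) a) =
        rep M.toCoxeterSystem hp.isCartan y (rep M.toCoxeterSystem hp.isCartan w a) := by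
      rw [rep_mul_apply, rep_mul_apply, rep_apply_inv]
    rw [← e] at hpos
    rcases (dvd_iff_SJ hp K hr1).1 hd with h3 | h3
    · exact h3
    · exfalso
      have h4 := h2 _ h3
      rw [map_neg] at h4
      exact (hr1.act w).not_pos_neg hpos (neg_nonneg.1 h4)
  have hdiag := fun y => diag hp K (hstab y) (hSJ y)
  choose π hπ hπ' using hdiag
  have hmk : ∀ y, mk D l (π y none) = 1 := fun y => mk_perm hp (hπ y) none
  refine Nat.card_le_card_of_injective (fun y => ⟨π y none, hmk y⟩) fun y y' h => ?_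
  have h3 : π y none = π y' none := congrArg Subtype.val h
  -- the quotient
  set z := (w⁻¹ * (y : M.Group) * w)⁻¹ * (w⁻¹ * (y' : M.Group) * w) with hz
  have hz1 : z = w⁻¹ * ((y⁻¹ * y' : ↥(PP M.toCoxeterSystem hp.isCartan (ch hp) t)) : M.Group) * w := by
    rw [hz, Subgroup.coe_mul, Subgroup.coe_inv]
    group
  have h4 : z = 1 := by
    have h5 : ∀ i, rep M.toCoxeterSystem hp.isCartan z (al D l i) = al D l (π (y⁻¹ * y') i) := fun i => by
      rw [hz1]
      exact hπ (y⁻¹ * y') i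
    refine eq_one_of_none hp h5 ?_
    rw [hz, rep_mul_apply, hπ y' none, ← h3, ← hπ y none, rep_inv_apply]
  have h6 : (y : M.Group) = y' := by
    have h7 : w⁻¹ * (y : M.Group) * w = w⁻¹ * (y' : M.Group) * w := by
      rw [hz] at h4
      exact inv_mul_eq_one.1 h4
    exact mul_left_cancel (mul_right_cancel h7)
  exact Subtype.ext h6

/-- **The stabiliser factor**, `k` algebraically closed. -/
theorem card_PP_le [Finite M.Group] [IsAlgClosed k] {n : ℕ} (hnk : (n : k) ≠ 0) {t : ↥(D.group k)} (ht : t ∈ TT D k)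
    (htn : t ^ n = 1) :
    Nat.card ↥(PP M.toCoxeterSystem hp.isCartan (ch hp) t) ≤ Nat.card {j : Option (Fin l) // mk D l j = 1} := by
  have hn : 0 < n := Nat.pos_of_ne_zero fun h => hnk (by rw [h, Nat.cast_zero])
  have : NeZero (n : k) := ⟨hnk⟩
  obtain ⟨ζ, hζ⟩ := HasEnoughRootsOfUnity.exists_primitiveRoot k n
  exact card_PP_le' hp hn hζ ht htn

/-- the number of the nodes of mark 1 -/
def nmk (D : ChevalleyDatum) (l : ℕ) : ℕ := (Finset.univ.filter fun j : Option (Fin l) => mk D l j = 1).card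

theorem card_mk : Nat.card {j : Option (Fin l) // mk D l j = 1} = nmk D l := by
  unfold nmk
  rw [Nat.card_eq_fintype_card, Fintype.card_subtype]

theorem nmk_G2 : nmk chevG2 2 = 1 := by decide +kernel
theorem nmk_F4 : nmk chevF4 4 = 1 := by decide +kernel
theorem nmk_E6 : nmk chevE6 6 = 3 := by decide +kernel
theorem nmk_E7 : nmk chevE7 7 = 2 := by decide +kernel
theorem nmk_E8 : nmk chevE8 8 = 1 := by decide +kernel

end Cfsg.Agent.H931.KC
end
end
end
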